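import Cfsg.Agent.R2.H4.Mon.GeoInst
import Cfsg.Agent.H848.TenI

/-!
# The arks: elementary facts (helper20)

`ark_conj`, `ark_comm`, `ark_sq`, `ark_card`, `bet_mul`, `bet_iff`, `bet_nondeg`, `ts_card`, `opp_inf`, `opp_sup`.
-/

set_option autoImplicit false
set_option linter.unusedSectionVars false

open Cfsg

namespace Cfsg.Agent.R2.H20.Mon.ArkA

open Cfsg.Agent.SporadicA.Co1Simple (allOne)
open Cfsg.Agent.SporadicA.Co0Mono (signCo0)
open Cfsg.Agent.CoOneType.CoOneE (pr pr_surjective E mem_E)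
open Cfsg.Agent.MonsterU.Lam2 (L2 IsType cl)
open Cfsg.Agent.MonsterU.CoFrameL2
open Cfsg.Agent.MonsterU.AmalGen (pre mem_pre EE pre_W1 z_mem_pre)
open Cfsg.Agent.MonsterU.AmalInf (AA mem_AA)
open Cfsg.Agent.MonsterU.Ch
open Cfsg.Agent.Co2Type.Quad
open Cfsg.Agent.H848.Oct (eps W16 W8 mem_W16 perp_W8 perp_W16)
open Cfsg.Agent.H848.Dual (perp mem_perp)
open Cfsg.Agent.H848.TenB (T mem_T sq_T ab_T card_T T_z mem_T_Q pre_W8_le)
open Cfsg.Agent.H848.TenD (nu nu_eq_zero nu_mul kap_mul_z kap_eq_zero)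
open Cfsg.Agent.H848.TenE (V5 Crd exists_crd)
open Cfsg.Agent.R2.H4.Mon.Frm
open Cfsg.Agent.R2.H4.Mon.GeoInst
open Cfsg.Agent.R2.M7
open Cfsg.Agent.R2.M7.Geo (cj CC)
open Cfsg.Spor (Co1)

variable {G : Type*} [Group G] {Q : Subgroup G} {z : G} {eta : G → L2}
  {pi : Subgroup.centralizer ({z} : Set G) →* Co1} {y τ : G}

/-! ### The form -/

theorem zmod_cases : ∀ a : ZMod 2, a = 0 ∨ a = 1 := by decide

theorem kap_zero_iff (h : Chart Q z eta pi) (o : golayCode) (x : G) :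
    (geo h o).kap x = 0 ↔ x = 1 ∨ TwoB z x := by
  classical
  unfold Geo.kap
  split_ifs with h1
  · exact ⟨fun _ => h1, fun _ => rfl⟩
  · exact ⟨fun h => absurd h one_ne_zero, fun h => absurd h h1⟩

theorem kap_eq (h : Chart Q z eta pi) (o : golayCode) (x : G) :
    (geo h o).kap x = Cfsg.Agent.H848.TenD.kap z x :=
  Cfsg.Agent.H848.TenD.zmod_eq_of_iff (by rw [kap_zero_iff, kap_eq_zero]; rfl)

theorem kap_conj (h : Chart Q z eta pi) (o : golayCode) (g x : G) :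
    (geo h o).kap (g * x * g⁻¹) = (geo h o).kap x := by
  rw [kap_eq, kap_eq, Cfsg.Agent.H848.TenD.kap_conj]

theorem bet_conj (h : Chart Q z eta pi) (o : golayCode) (g a b : G) :
    (geo h o).bet (g * a * g⁻¹) (g * b * g⁻¹) = (geo h o).bet a b := by
  unfold Geo.bet
  have e : g * a * g⁻¹ * (g * b * g⁻¹) = g * (a * b) * g⁻¹ := by group
  rw [e, kap_conj, kap_conj, kap_conj]

/-- the polar form in coordinates -/
def pol (u v : V5) : ZMod 2 :=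
  quadFormPlus 5 (ZMod 2) (u + v) + quadFormPlus 5 (ZMod 2) u + quadFormPlus 5 (ZMod 2) v

theorem pol_eq (u v : V5) : pol u v = ∑ i, (u (Sum.inl i) * v (Sum.inr i) + u (Sum.inr i) * v (Sum.inl i)) := by
  unfold pol quadFormPlus
  simp only [Pi.add_apply, ← Finset.sum_add_distrib]
  apply Finset.sum_congr rfl
  intro i _
  generalize u (Sum.inl i) = a1
  generalize u (Sum.inr i) = a2
  generalize v (Sum.inl i) = b1
  generalize v (Sum.inr i) = b2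
  revert a1 a2 b1 b2
  decide

theorem pol_add (u v w : V5) : pol (u + v) w = pol u w + pol v w := by
  rw [pol_eq, pol_eq, pol_eq, ← Finset.sum_add_distrib]
  apply Finset.sum_congr rfl
  intro i _
  rw [Pi.add_apply, Pi.add_apply]
  ring

theorem pol_comm (u v : V5) : pol u v = pol v u := by
  unfold pol
  rw [add_comm u v]
  ring

theorem pol_nondeg {u : V5} (hu : u ≠ 0) : ∃ v, pol v u = 1 := by
  obtain ⟨i, hi⟩ := Function.ne_iff.1 hu
  have hi1 : u i = 1 := (zmod_cases _).resolve_left hi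
  rcases i with i | i
  · refine ⟨Pi.single (Sum.inr i) 1, ?_⟩
    rw [pol_eq]
    rw [Finset.sum_eq_single i]
    · rw [Pi.single_eq_same, hi1, Pi.single_eq_of_ne (by simp)]; simp
    · intro j _ hj
      rw [Pi.single_eq_of_ne (by simp), Pi.single_eq_of_ne (by simpa using hj)]; simp
    · intro h1; exact absurd (Finset.mem_univ _) h1
  · refine ⟨Pi.single (Sum.inl i) 1, ?_⟩
    rw [pol_eq]
    rw [Finset.sum_eq_single i]
    · rw [Pi.single_eq_same, hi1, Pi.single_eq_of_ne (by simp)]; simp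
    · intro j _ hj
      rw [Pi.single_eq_of_ne (by simpa using hj), Pi.single_eq_of_ne (by simp)]; simp
    · intro h1; exact absurd (Finset.mem_univ _) h1

/-! ### Totally singular subgroups of the space of dimension 10 -/

/-- the polar form as a bilinear form -/
def polB : LinearMap.BilinForm (ZMod 2) V5 :=
  LinearMap.mk₂ (ZMod 2) pol pol_add
    (fun c u v => by
      rcases zmod_cases c with rfl | rfl
      · rw [zero_smul, zero_smul, pol_eq]; simp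
      · rw [one_smul, one_smul])
    (fun u v w => by rw [pol_comm, pol_add, pol_comm v, pol_comm w])
    (fun c u v => by
      rcases zmod_cases c with rfl | rfl
      · rw [zero_smul, zero_smul, pol_eq]; simp
      · rw [one_smul, one_smul])

theorem polB_apply (u v : V5) : polB u v = pol u v := rfl

theorem polB_refl : polB.IsRefl := fun u v h => by
  rw [polB_apply] at h ⊢
  rw [pol_comm, h]

theorem polB_nondeg : polB.Nondegenerate := by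
  refine (LinearMap.IsRefl.nondegenerate_iff_separatingLeft polB_refl).2 ?_
  intro u hu
  by_contra hne
  obtain ⟨v, hv⟩ := pol_nondeg hne
  have h1 := hu v
  rw [polB_apply, pol_comm, hv] at h1
  exact one_ne_zero h1

theorem ts_le (W : Submodule (ZMod 2) V5) (hW : ∀ u ∈ W, ∀ v ∈ W, pol u v = 0) : Nat.card W ≤ 32 := by
  have h1 : W ≤ polB.orthogonal W := by
    intro v hv u hu
    exact hW u hu v hv
  have h2 := Submodule.finrank_mono h1
  have h3 := LinearMap.BilinForm.finrank_orthogonal polB_nondeg W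
  have h4 : Module.finrank (ZMod 2) V5 = 10 := by
    rw [Module.finrank_fintype_fun_eq_card]; rfl
  have h5 : Module.finrank (ZMod 2) W ≤ 10 := by rw [← h4]; exact Submodule.finrank_le W
  have h6 : Module.finrank (ZMod 2) W ≤ 5 := by omega
  have h7 := Module.natCard_eq_pow_finrank (K := ZMod 2) (V := W)
  rw [h7, Nat.card_zmod]
  calc 2 ^ Module.finrank (ZMod 2) W ≤ 2 ^ 5 := Nat.pow_le_pow_right (by norm_num) h6
    _ = 32 := by norm_num

/-! ### The facts -/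

section

variable {o : golayCode} (Fo : Cfsg.Agent.H848.TenA.Facts o) (F : Fr Q z eta pi y τ) (hE : TE F.ch τ)
include Fo F hE

omit Fo hE in
theorem ark_conj : ∀ O ∈ (geo F.ch o).Ark, ∀ g : G, cj g O ∈ (geo F.ch o).Ark := by
  rintro O ⟨k, rfl⟩ g
  exact ⟨g * k, cj_cj k g _⟩

theorem ark_comm [Finite G] : ∀ O ∈ (geo F.ch o).Ark, ∀ a ∈ O, ∀ b ∈ O, a * b = b * a := by
  rintro O ⟨k, rfl⟩ a ha b hb
  rw [mem_cj] at ha hb
  have h1 := ab_T F.ch Fo F.hyQ F.hy F.τz F.τy hE ha hb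
  calc a * b = k * ((k⁻¹ * a * k) * (k⁻¹ * b * k)) * k⁻¹ := by group
    _ = k * ((k⁻¹ * b * k) * (k⁻¹ * a * k)) * k⁻¹ := by rw [h1]
    _ = b * a := by group

theorem ark_sq [Finite G] : ∀ O ∈ (geo F.ch o).Ark, ∀ a ∈ O, a * a = 1 := by
  rintro O ⟨k, rfl⟩ a ha
  rw [mem_cj] at ha
  have h1 := sq_T F.ch Fo F.hyQ F.hy F.τz F.τy hE ha
  calc a * a = k * ((k⁻¹ * a * k) * (k⁻¹ * a * k)) * k⁻¹ := by group
    _ = 1 := by rw [h1]; group

theorem ark_card [Finite G] : ∀ O ∈ (geo F.ch o).Ark, Nat.card O = 2 ^ 10 := by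
  rintro O ⟨k, rfl⟩
  rw [← card_T F.ch Fo F.hyQ F.hy F.τz F.τy hE]
  exact Nat.card_congr (Subgroup.equivMapOfInjective _ _ (MulAut.conj k).injective).toEquiv.symm

/-- coordinates on the standard ark -/
theorem exists_coord [Finite G] : ∃ ι : V5 → G, Function.Injective ι ∧ (∀ u v, ι (u + v) = ι u * ι v) ∧
    (∀ g, g ∈ T F.ch o ↔ ∃ x, ι x = g) ∧ (∀ v, (geo F.ch o).kap (ι v) = quadFormPlus 5 (ZMod 2) v) ∧
    ∀ u v, (geo F.ch o).bet (ι u) (ι v) = pol u v := by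
  obtain ⟨t, -, -, -, -, ι, c⟩ := exists_crd F.ch Fo F.hyQ F.hy F.τz F.τy hE
  have hk : ∀ v, (geo F.ch o).kap (ι v) = quadFormPlus 5 (ZMod 2) v := fun v => by rw [kap_eq]; exact c.kap v
  refine ⟨ι, c.inj, c.add, c.mem, hk, fun u v => ?_⟩
  unfold Geo.bet pol
  rw [← c.add, hk, hk, hk]

theorem bet_mul [Finite G] : ∀ O ∈ (geo F.ch o).Ark, ∀ a ∈ O, ∀ b ∈ O, ∀ c ∈ O,
    (geo F.ch o).bet (a * b) c = (geo F.ch o).bet a c + (geo F.ch o).bet b c := by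
  rintro O ⟨k, rfl⟩ a ha b hb c hc
  rw [mem_cj] at ha hb hc
  obtain ⟨ι, -, hadd, hm, -, hbet⟩ := exists_coord Fo F hE
  obtain ⟨u, hu⟩ := (hm _).1 ha
  obtain ⟨v, hv⟩ := (hm _).1 hb
  obtain ⟨w, hw⟩ := (hm _).1 hc
  rw [← bet_conj F.ch o k⁻¹ (a * b) c, ← bet_conj F.ch o k⁻¹ a c, ← bet_conj F.ch o k⁻¹ b c, inv_inv]
  have e : k⁻¹ * (a * b) * k = (k⁻¹ * a * k) * (k⁻¹ * b * k) := by group
  rw [e, ← hu, ← hv, ← hw, ← hadd, hbet, hbet, hbet, pol_add]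

theorem bet_nondeg [Finite G] : ∀ O ∈ (geo F.ch o).Ark, ∀ a ∈ O, a ≠ 1 → ∃ b ∈ O, (geo F.ch o).bet b a = 1 := by
  rintro O ⟨k, rfl⟩ a ha hne
  rw [mem_cj] at ha
  obtain ⟨ι, -, hadd, hm, -, hbet⟩ := exists_coord Fo F hE
  obtain ⟨u, hu⟩ := (hm _).1 ha
  have hι0 : ι 0 = 1 := by
    have h1 := hadd 0 0
    rw [add_zero] at h1
    exact left_eq_mul.1 h1
  have hu0 : u ≠ 0 := by
    rintro rfl
    apply hne
    rw [hι0] at hu
    calc a = k * (k⁻¹ * a * k) * k⁻¹ := by group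
      _ = 1 := by rw [← hu]; group
  obtain ⟨v, hv⟩ := pol_nondeg hu0
  refine ⟨k * ι v * k⁻¹, ?_, ?_⟩
  · rw [conj_mem_cj]; exact (hm _).2 ⟨v, rfl⟩
  · rw [← bet_conj F.ch o k⁻¹ _ a, inv_inv]
    have e : k⁻¹ * (k * ι v * k⁻¹) * k = ι v := by group
    rw [e, ← hu, hbet, hv]

theorem bet_z [Finite G] {a : G} (ha : a ∈ T F.ch o) : (geo F.ch o).bet a z = nu Q a := by
  unfold Geo.bet
  rw [kap_eq, kap_eq, kap_eq, kap_mul_z F.ch Fo F.hyQ F.hy F.τz F.τy hE ha, Cfsg.Agent.H848.TenD.kap_z]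
  rw [add_zero, add_right_comm, CharTwo.add_self_eq_zero, zero_add]

theorem bet_iff [Finite G] : ∀ O ∈ (geo F.ch o).Ark, ∀ v ∈ O, v ∈ (geo F.ch o).Pt → ∀ a ∈ O,
    (a ∈ (geo F.ch o).QQ v ↔ (geo F.ch o).bet a v = 0) := by
  intro O hO v hv hP a ha
  obtain ⟨k, rfl, rfl⟩ := std1 Fo F hE hO hv hP
  rw [mem_cj] at ha
  have e : k⁻¹ * (k * z * k⁻¹) * k = z := by group
  rw [← bet_conj F.ch o k⁻¹ a, inv_inv, e, bet_z Fo F hE ha, nu_eq_zero]
  show a ∈ QQ Q z (k * z * k⁻¹) ↔ _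
  rw [QQ_eq F.ch.large rfl, mem_AA]

theorem ts_card [Finite G] : ∀ O ∈ (geo F.ch o).Ark, ∀ S ≤ O, (∀ x ∈ S, x ≠ 1 → x ∈ (geo F.ch o).Pt) →
    Nat.card S ≤ 32 := by
  rintro O ⟨k, rfl⟩ S hS hP
  obtain ⟨ι, hinj, hadd, hm, hkap, hbet⟩ := exists_coord Fo F hE
  have hι0 : ι 0 = 1 := by
    have h1 := hadd 0 0
    rw [add_zero] at h1
    exact left_eq_mul.1 h1
  let W : Submodule (ZMod 2) V5 :=
    { carrier := {v | k * ι v * k⁻¹ ∈ S}
      add_mem' := by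
        intro u v hu hv
        show k * ι (u + v) * k⁻¹ ∈ S
        rw [hadd]
        have e : k * (ι u * ι v) * k⁻¹ = (k * ι u * k⁻¹) * (k * ι v * k⁻¹) := by group
        rw [e]
        exact S.mul_mem hu hv
      zero_mem' := by
        show k * ι 0 * k⁻¹ ∈ S
        rw [hι0, mul_one, mul_inv_cancel]
        exact S.one_mem
      smul_mem' := by
        intro c u hu
        rcases zmod_cases c with rfl | rfl
        · rw [zero_smul]
          show k * ι 0 * k⁻¹ ∈ S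
          rw [hι0, mul_one, mul_inv_cancel]
          exact S.one_mem
        · rw [one_smul]; exact hu }
  have hW : ∀ v, v ∈ W ↔ k * ι v * k⁻¹ ∈ S := fun v => Iff.rfl
  have hq : ∀ v ∈ W, quadFormPlus 5 (ZMod 2) v = 0 := by
    intro v hv
    rw [← hkap, ← kap_conj F.ch o k, kap_zero_iff]
    by_cases h1 : k * ι v * k⁻¹ = 1
    · exact Or.inl h1
    · exact Or.inr (hP _ hv h1)
  have h1 := ts_le W (fun u hu v hv => by
    unfold pol
    rw [hq _ (W.add_mem hu hv), hq _ hu, hq _ hv]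
    rfl)
  refine le_trans ?_ h1
  -- the map
  have h2 : ∀ x : S, ∃ v : W, k * ι (v : V5) * k⁻¹ = x := by
    intro x
    have h3 := hS x.2
    rw [mem_cj] at h3
    obtain ⟨v, hv⟩ := (hm _).1 h3
    have h4 : k * ι v * k⁻¹ = x := by rw [hv]; group
    exact ⟨⟨v, by rw [hW, h4]; exact x.2⟩, h4⟩
  choose f hf using h2
  apply Nat.card_le_card_of_injective f
  intro a b hab
  apply Subtype.ext
  rw [← hf a, ← hf b, hab]

/-! ### Two points which are not collinear -/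

theorem mem_X_of [Finite G] {x : G} (hx : x ∈ CC (T F.ch o)) (hxQ : x ∈ Q) : x ∈ pre F.ch (W16 o) := by
  refine ⟨hxQ, ?_⟩
  rw [← perp_W8, mem_perp]
  intro u hu
  obtain ⟨q, hq, rfl⟩ := F.ch.eta_surj u
  have h1 := Subgroup.mem_centralizer_iff.1 hx q (pre_W8_le F.ch ⟨hq, hu⟩)
  exact (F.ch.comm_iff hxQ hq).1 h1.symm

/-- the standard pair: `z` and a point `t` of `T` outside `Q` -/
theorem opp_std [Finite G] {t : G} (ht : t ∈ T F.ch o) (htP : TwoB z t) (htQ : t ∉ Q) :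
    ∃ g ∈ Cfsg.Agent.H848.TenC.N F.ch o, g * z * g⁻¹ = t ∧ Cfsg.Agent.H848.TenD.kap z (t * z) = 1 := by
  obtain ⟨g, hg, hgz⟩ := exists_norm Fo F hE ht htP
  refine ⟨g, hg, hgz, ?_⟩
  rw [kap_mul_z F.ch Fo F.hyQ F.hy F.τz F.τy hE ht, kap_eq_zero.2 (Or.inr htP), zero_add]
  exact (zmod_cases _).resolve_left fun h2 => htQ (nu_eq_zero.1 h2)

theorem mem_Xt_of [Finite G] {g t x : G} (hg : g ∈ Cfsg.Agent.H848.TenC.N F.ch o) (hgt : g * z * g⁻¹ = t)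
    (hx : x ∈ CC (T F.ch o)) (hxQ : x ∈ QQ Q z t) : x ∈ Cfsg.Agent.H848.TenG.Xt F.ch o g := by
  rw [Cfsg.Agent.H848.TenG.mem_Xt]
  rw [QQ_eq F.ch.large hgt, mem_AA] at hxQ
  refine mem_X_of Fo F hE ?_ hxQ
  have h1 := Cfsg.Agent.H848.TenG.C_conj F.ch ((Cfsg.Agent.H848.TenC.N F.ch o).inv_mem hg) hx
  rwa [inv_inv] at h1

theorem opp_inf [Finite G] : ∀ O ∈ (geo F.ch o).Ark, ∀ v ∈ O, v ∈ (geo F.ch o).Pt → ∀ w ∈ O, w ∈ (geo F.ch o).Pt →
    w ∉ (geo F.ch o).QQ v → ∀ x ∈ CC O, x ∈ (geo F.ch o).QQ v → x ∈ (geo F.ch o).QQ w → x ∈ O := by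
  intro O hO v hv hvP w hw hwP hwv x hx hxv hxw
  obtain ⟨k, rfl, rfl⟩ := std1 Fo F hE hO hv hvP
  rw [mem_cj] at hw ⊢
  have hw' : TwoB z (k⁻¹ * w * k) := by
    have h1 := TwoB.conj hwP k⁻¹
    rwa [inv_inv] at h1
  have hwQ : k⁻¹ * w * k ∉ Q := by
    intro h1
    apply hwv
    show w ∈ QQ Q z (k * z * k⁻¹)
    rwa [QQ_eq F.ch.large rfl, mem_AA]
  obtain ⟨g, hg, hgt, hk⟩ := opp_std Fo F hE hw hw' hwQ
  have hx' : k⁻¹ * x * k ∈ CC (T F.ch o) := by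
    rw [Subgroup.mem_centralizer_iff] at hx ⊢
    intro t ht
    have h1 := hx (k * t * k⁻¹) (conj_mem_cj.2 ht)
    calc t * (k⁻¹ * x * k) = k⁻¹ * ((k * t * k⁻¹) * x) * k := by group
      _ = k⁻¹ * (x * (k * t * k⁻¹)) * k := by rw [h1]
      _ = k⁻¹ * x * k * t := by group
  have h1 : k⁻¹ * x * k ∈ Q := by
    have h2 : x ∈ QQ Q z (k * z * k⁻¹) := hxv
    rwa [QQ_eq F.ch.large rfl, mem_AA] at h2
  have h2 : k⁻¹ * x * k ∈ QQ Q z (k⁻¹ * w * k) := by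
    have h3 := (mem_QQ_conj F.ch.large hwP k⁻¹ (x := x)).2 hxw
    rwa [inv_inv] at h3
  exact pre_W8_le F.ch (Cfsg.Agent.H848.TenG.inf_le F.ch Fo F.hyQ F.hy F.τz F.τy hE hk hg hgt
    ⟨mem_X_of Fo F hE hx' h1, mem_Xt_of Fo F hE hg hgt hx' h2⟩)

theorem card_C [Finite G] : Nat.card (Cfsg.Agent.H848.TenG.C F.ch o) = 2 ^ 26 := by
  obtain ⟨t, ht, htQ, ⟨g, hg, hgz⟩, hk, ι, c⟩ := exists_crd F.ch Fo F.hyQ F.hy F.τz F.τy hE
  obtain ⟨β, hβ⟩ := Cfsg.Agent.H848.TenF.exists_beta c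
  exact (Cfsg.Agent.H848.TenH.range_eq F.ch Fo F.hyQ F.hy F.τz F.τy hE c hβ ht htQ hg hgz hk).2

theorem opp_sup [Finite G] : ∀ O ∈ (geo F.ch o).Ark, ∀ v ∈ O, v ∈ (geo F.ch o).Pt → ∀ w ∈ O, w ∈ (geo F.ch o).Pt →
    w ∉ (geo F.ch o).QQ v →
    ∀ x ∈ CC O, ∃ r ∈ CC O, r ∈ (geo F.ch o).QQ v ∧ ∃ s ∈ CC O, s ∈ (geo F.ch o).QQ w ∧ x = r * s := by
  intro O hO v hv hvP w hw hwP hwv x hx
  obtain ⟨k, rfl, rfl⟩ := std1 Fo F hE hO hv hvP
  rw [mem_cj] at hw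
  have hw' : TwoB z (k⁻¹ * w * k) := by
    have h1 := TwoB.conj hwP k⁻¹
    rwa [inv_inv] at h1
  have hwQ : k⁻¹ * w * k ∉ Q := by
    intro h1
    apply hwv
    show w ∈ QQ Q z (k * z * k⁻¹)
    rwa [QQ_eq F.ch.large rfl, mem_AA]
  obtain ⟨g, hg, hgt, hk⟩ := opp_std Fo F hE hw hw' hwQ
  have hconj : ∀ x : G, x ∈ CC (cj k (T F.ch o)) ↔ k⁻¹ * x * k ∈ CC (T F.ch o) := by
    intro x
    rw [Subgroup.mem_centralizer_iff, Subgroup.mem_centralizer_iff]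
    constructor
    · intro hx t ht
      have h1 := hx (k * t * k⁻¹) (conj_mem_cj.2 ht)
      calc t * (k⁻¹ * x * k) = k⁻¹ * ((k * t * k⁻¹) * x) * k := by group
        _ = k⁻¹ * (x * (k * t * k⁻¹)) * k := by rw [h1]
        _ = k⁻¹ * x * k * t := by group
    · intro hx t ht
      have h1 := hx (k⁻¹ * t * k) (mem_cj.1 ht)
      calc t * x = k * ((k⁻¹ * t * k) * (k⁻¹ * x * k)) * k⁻¹ := by group
        _ = k * ((k⁻¹ * x * k) * (k⁻¹ * t * k)) * k⁻¹ := by rw [h1]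
        _ = x * t := by group
  have hx' := (hconj x).1 hx
  have hC := Cfsg.Agent.H848.TenI.C_eq F.ch Fo F.hyQ F.hy F.τz F.τy hE hw hg hgt hk (card_C Fo F hE)
  have hx2 : k⁻¹ * x * k ∈ Cfsg.Agent.H848.TenG.X F.ch o ⊔ Cfsg.Agent.H848.TenG.Xt F.ch o g := by
    rw [← hC]; exact hx'
  have hXC : ∀ r ∈ Cfsg.Agent.H848.TenG.X F.ch o, r ∈ CC (T F.ch o) := fun r hr =>
    Cfsg.Agent.H848.TenG.X_le_C F.ch hr
  have hXtC : ∀ r ∈ Cfsg.Agent.H848.TenG.Xt F.ch o g, r ∈ CC (T F.ch o) := fun r hr =>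
    Cfsg.Agent.H848.TenG.Xt_le_C F.ch hg hr
  have hn : ∀ r ∈ Cfsg.Agent.H848.TenG.X F.ch o, ∀ s ∈ Cfsg.Agent.H848.TenG.Xt F.ch o g,
      s * r * s⁻¹ ∈ Cfsg.Agent.H848.TenG.X F.ch o := fun r hr s hs =>
    Cfsg.Agent.H848.TenG.C_X F.ch Fo F.hyQ F.hy F.τz F.τy hE (hXtC s hs) hr
  have hprod : ∃ r ∈ Cfsg.Agent.H848.TenG.X F.ch o, ∃ s ∈ Cfsg.Agent.H848.TenG.Xt F.ch o g,
      k⁻¹ * x * k = r * s := by
    let P : Subgroup G :=
      { carrier := {x | ∃ r ∈ Cfsg.Agent.H848.TenG.X F.ch o, ∃ s ∈ Cfsg.Agent.H848.TenG.Xt F.ch o g, x = r * s}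
        one_mem' := ⟨1, Subgroup.one_mem _, 1, Subgroup.one_mem _, by rw [mul_one]⟩
        mul_mem' := by
          rintro a b ⟨r, hr, s, hs, rfl⟩ ⟨r', hr', s', hs', rfl⟩
          refine ⟨r * (s * r' * s⁻¹), Subgroup.mul_mem _ hr (hn _ hr' _ hs), s * s', Subgroup.mul_mem _ hs hs', ?_⟩
          group
        inv_mem' := by
          rintro a ⟨r, hr, s, hs, rfl⟩
          refine ⟨s⁻¹ * r⁻¹ * s, ?_, s⁻¹, Subgroup.inv_mem _ hs, ?_⟩
          · have h1 := hn _ (Subgroup.inv_mem _ hr) _ (Subgroup.inv_mem _ hs)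
            rwa [inv_inv] at h1
          · group }
    have h1 : Cfsg.Agent.H848.TenG.X F.ch o ⊔ Cfsg.Agent.H848.TenG.Xt F.ch o g ≤ P := by
      refine sup_le (fun r hr => ⟨r, hr, 1, Subgroup.one_mem _, by rw [mul_one]⟩)
        (fun s hs => ⟨1, Subgroup.one_mem _, s, hs, by rw [one_mul]⟩)
    exact h1 hx2
  obtain ⟨r, hr, s, hs, hrs⟩ := hprod
  refine ⟨k * r * k⁻¹, (hconj _).2 (by
      have e : k⁻¹ * (k * r * k⁻¹) * k = r := by group
      rw [e]; exact hXC r hr), ?_, k * s * k⁻¹, (hconj _).2 (by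
      have e : k⁻¹ * (k * s * k⁻¹) * k = s := by group
      rw [e]; exact hXtC s hs), ?_, ?_⟩
  · show k * r * k⁻¹ ∈ QQ Q z (k * z * k⁻¹)
    rw [mem_QQ_conj F.ch.large (TwoB.self z) k, F.QQ_z]
    exact hr.1
  · have h1 : s ∈ QQ Q z (k⁻¹ * w * k) := by
      rw [QQ_eq F.ch.large hgt, mem_AA]
      exact ((Cfsg.Agent.H848.TenG.mem_Xt F.ch).1 hs).1
    have h2 := (mem_QQ_conj F.ch.large hw' k (x := s)).2 h1
    have e : k * (k⁻¹ * w * k) * k⁻¹ = w := by group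
    rw [e] at h2
    exact h2
  · calc x = k * (k⁻¹ * x * k) * k⁻¹ := by group
      _ = k * r * k⁻¹ * (k * s * k⁻¹) := by rw [hrs]; group

end

end Cfsg.Agent.R2.H20.Mon.ArkA
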