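import Cfsg.Agent.R2.H20.Mon.IvFam
import Cfsg.Agent.R2.H20.Mon.ArkA
import Cfsg.Agent.R2.H4.Mon.VsGrp

/-!
# The number of the points `v` of an ark with `s ∈ KK O v` (helper20)

`V_card` (K3), `V_inter` (K4).
-/

set_option autoImplicit false
set_option linter.unusedSectionVars false

open Cfsg

namespace Cfsg.Agent.R2.H20.Mon.VCard

open Cfsg.Agent.SporadicA.Co1Simple (allOne)
open Cfsg.Agent.CoOneType.SignFacts
open Cfsg.Agent.MonsterU
open Cfsg.Agent.MonsterU.Lam2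
open Cfsg.Agent.MonsterU.CoFrameL2
open Cfsg.Agent.MonsterU.AmalGen (pre mem_pre EE pre_W1 z_mem_pre)
open Cfsg.Agent.MonsterU.Ch
open Cfsg.Agent.H848.Dual (perp mem_perp card_perp perp_perp perp_anti sub card_sub mem_sub)
open Cfsg.Agent.H848.Oct
open Cfsg.Agent.H848.TenA (Facts)
open Cfsg.Agent.H848.TenB (T mem_T_Q mem_pre_W8 pre_W8_le)
open Cfsg.Agent.R2.H20.Mon.Iv
open Cfsg.Agent.R2.H20.Mon.IvFam
open Cfsg.Agent.R2.H4.Mon.Frm
open Cfsg.Agent.R2.H4.Mon.GeoInst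
open Cfsg.Agent.R2.H4.Mon.GeoConj
open Cfsg.Agent.R2.H4.Mon.ArkStd
open Cfsg.Agent.R2.H4.Mon.IvLink
open Cfsg.Agent.R2.M7
open Cfsg.Agent.R2.M7.Geo (cj CC)
open Cfsg.Spor (Co1)

/-! ### The family -/

section

variable {o : golayCode}

/-- subgroups between `W8` and `W16` -/
theorem card_part (F : Facts o) {C K : AddSubgroup L2} (hC2 : C ⊓ W8 o = ⊥) (hC3 : C ⊔ W8 o = W16 o)
    (h1 : W8 o ≤ K) (h2 : K ≤ W16 o) : Nat.card (K.addSubgroupOf C) * 2 ^ 8 = Nat.card K := by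
  have h3 : Nat.card (K.addSubgroupOf C) = Nat.card (K ⊓ C : AddSubgroup L2) := by
    rw [← AddSubgroup.addSubgroupOf_map_subtype]
    exact Nat.card_congr ((K.addSubgroupOf C).equivMapOfInjective _ C.subtype_injective).toEquiv
  have h4 := card_sup_inf (K ⊓ C) (W8 o)
  have h5 : (K ⊓ C) ⊓ W8 o = ⊥ := by rw [inf_assoc, hC2, inf_bot_eq]
  have h6 : (K ⊓ C) ⊔ W8 o = K := by
    rw [inf_sup_assoc_of_le C h1, hC3, inf_eq_left.2 h2]
  rw [h5, h6, H848.TenA.card_W8 F, AddSubgroup.card_bot, mul_one] at h4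
  rw [h3, h4]

/-- the bilinear form on a subgroup -/
noncomputable def bb (C : AddSubgroup L2) : C →+ C →+ ZMod 2 :=
  AddMonoidHom.mk' (fun x => AddMonoidHom.mk' (fun y => bf (x : L2) y) (fun y y' => bf_add_right _ _ _))
    (fun x x' => by
      ext y
      exact bf_add_left _ _ _)

theorem bb_apply (C : AddSubgroup L2) (x y : C) : bb C x y = bf (x : L2) y := rfl

variable (F : Facts o)
  (hopp : ∀ v ∈ pts o, ∀ w ∈ pts o, w ∉ Iv v → Iv v ⊓ Iv w ⊓ W16 o ≤ W8 o)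
include F hopp

theorem fam {C : AddSubgroup L2} (hC1 : C ≤ W16 o) (hC2 : C ⊓ W8 o = ⊥) (hC3 : C ⊔ W8 o = W16 o) [Fintype C]
    [Fintype (pts o)] :
    Count.Fam (fun x : C => qf (x : L2)) (bb C) (fun v : pts o => (KK o v).addSubgroupOf C) := by
  have hbot : ∀ v w : pts o, (w : L2) ∉ Iv (v : L2) →
      (KK o v).addSubgroupOf C ⊓ (KK o w).addSubgroupOf C = ⊥ := by
    intro v w hwv
    have hne : (v : L2) ≠ w := by
      intro h
      apply hwv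
      rw [← h]
      exact self_mem v.2.2
    rw [eq_bot_iff]
    rintro x ⟨hx1, hx2⟩
    have h1 : (x : L2) ∈ KK o v ⊓ KK o w := ⟨hx1, hx2⟩
    rw [KK_inf F v.2 w.2 hne, sup_eq_right.2 (hopp v v.2 w w.2 hwv)] at h1
    have h2 : (x : L2) ∈ C ⊓ W8 o := ⟨x.2, h1⟩
    rw [hC2, AddSubgroup.mem_bot] at h2
    rw [AddSubgroup.mem_bot]
    exact Subtype.ext h2
  refine { cardA := ?_, quad := ?_, nondeg := ?_, cardι := ?_, cardM := ?_, sing := ?_, opp := ?_, inter := ?_ }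
  · have h4 := card_sup_inf C (W8 o)
    rw [hC2, hC3, H848.TenA.card_W8 F, H848.TenA.card_W16 F, AddSubgroup.card_bot, mul_one] at h4
    rw [← Nat.card_eq_fintype_card]
    omega
  · intro x y
    exact qf_add _ _
  · intro x hx
    have h1 : (x : L2) ∈ perp (W16 o) := by
      rw [mem_perp, ← hC3]
      intro u hu
      obtain ⟨c, hc, w, hw, rfl⟩ := AddSubgroup.mem_sup.1 hu
      rw [bf_add_right]
      have h2 : bf (x : L2) c = 0 := hx ⟨c, hc⟩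
      have h3 : bf (x : L2) w = 0 := by
        have h4 : (x : L2) ∈ perp (W8 o) := by rw [perp_W8]; exact hC1 x.2
        exact h4 w hw
      rw [h2, h3, add_zero]
    rw [perp_W16] at h1
    have h2 : (x : L2) ∈ C ⊓ W8 o := ⟨x.2, h1⟩
    rw [hC2, AddSubgroup.mem_bot] at h2
    exact Subtype.ext h2
  · rw [← Nat.card_eq_fintype_card]
    exact card_pts F
  · intro v
    have h1 := card_part F hC2 hC3 (W8_le_KK (v := (v : L2))) KK_le
    rw [card_KK F v.2] at h1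
    omega
  · intro v x hx
    exact qf_KK F v.2 hx
  · intro v
    obtain ⟨w, hw, hwv⟩ := exists_opp F v.2
    exact ⟨⟨w, hw⟩, hbot v ⟨w, hw⟩ hwv⟩
  · intro v w hvw
    have hne : (v : L2) ≠ w := fun h => hvw (Subtype.ext h)
    by_cases hwv : (w : L2) ∈ Iv (v : L2)
    · have h1 := card_part F hC2 hC3 (K := KK o v ⊓ KK o w) (le_inf W8_le_KK W8_le_KK) (inf_le_left.trans KK_le)
      have h2 := card_KK_inf F v.2 w.2 hwv hne
      have h3 : (KK o v).addSubgroupOf C ⊓ (KK o w).addSubgroupOf C = (KK o v ⊓ KK o w).addSubgroupOf C := rfl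
      rw [h3]
      omega
    · rw [hbot v w hwv, AddSubgroup.card_bot]
      norm_num

variable (h15 : ∀ x ∈ W16 o, x ∉ W8 o → {v | v ∈ pts o ∧ x ∈ KK o v}.ncard ≤ 15)
include h15

theorem count {x x' : L2} (hx : x ∈ W16 o) (hx8 : x ∉ W8 o) (hq : qf x = 0) (hx' : x' ∈ W16 o) (hx8' : x' ∉ W8 o)
    (hq' : qf x' = 0) :
    {v | v ∈ pts o ∧ x ∈ KK o v}.ncard = 15 ∧
      (x + x' ∉ W8 o → bf x x' = 0 → {v | v ∈ pts o ∧ x ∈ KK o v ∧ x' ∈ KK o v}.ncard = 3) := by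
  classical
  obtain ⟨C, hC1, hC2, hC3⟩ := exists_compl (W8_le_W16 o)
  letI : Fintype C := Fintype.ofFinite C
  letI : Fintype (pts o) := Fintype.ofFinite (pts o)
  have hF := fam F hopp hC1 hC2 hC3
  -- the components
  have comp : ∀ x ∈ W16 o, x ∉ W8 o → qf x = 0 → ∃ a : C, a ≠ 0 ∧ x + a ∈ W8 o ∧ qf (a : L2) = 0 := by
    intro x hx hx8 hq
    rw [← hC3] at hx
    obtain ⟨a, ha, u, hu, rfl⟩ := AddSubgroup.mem_sup.1 hx
    refine ⟨⟨a, ha⟩, ?_, ?_, ?_⟩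
    · intro h0
      apply hx8
      have : a = 0 := congrArg Subtype.val h0
      rw [this, zero_add]
      exact hu
    · have e : a + u + a = u := by
        calc a + u + a = u + (a + a) := by abel
          _ = u := by rw [add_self, add_zero]
      show a + u + a ∈ W8 o
      rw [e]; exact hu
    · have h1 : bf a u = 0 := by
        have h4 : a ∈ perp (W8 o) := by rw [perp_W8]; exact hC1 ha
        exact h4 u hu
      rw [qf_add, h1, H848.TenA.qf_W8 F hu, add_zero, add_zero] at hq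
      exact hq
  have memK : ∀ {x a : L2}, x + a ∈ W8 o → ∀ v, x ∈ KK o v ↔ a ∈ KK o v := by
    intro x a hxa v
    have h1 := W8_le_KK (v := v) hxa
    constructor
    · intro h
      have h2 := (KK o v).sub_mem h1 h
      rwa [add_sub_cancel_left] at h2
    · intro h
      have h2 := (KK o v).sub_mem h1 h
      rwa [add_sub_cancel_right] at h2
  have toSet : ∀ P : L2 → Prop, (Finset.univ.filter fun v : pts o => P v).card = {v | v ∈ pts o ∧ P v}.ncard := by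
    intro P
    have h1 : {v | v ∈ pts o ∧ P v} = (fun v : pts o => (v : L2)) '' {v : pts o | P v} := by
      ext v
      constructor
      · rintro ⟨h1, h2⟩
        exact ⟨⟨v, h1⟩, h2, rfl⟩
      · rintro ⟨w, hw, rfl⟩
        exact ⟨w.2, hw⟩
    rw [h1, Set.ncard_image_of_injective _ Subtype.val_injective, ← Set.ncard_coe_finset]
    congr 1
    ext v
    simp
  have h15' : ∀ a : C, a ≠ 0 → (Finset.univ.filter fun v : pts o => a ∈ (KK o v).addSubgroupOf C).card ≤ 15 := by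
    intro a ha
    have h1 := h15 a (hC1 a.2) (by
      intro h8
      apply ha
      have h2 : (a : L2) ∈ C ⊓ W8 o := ⟨a.2, h8⟩
      rw [hC2, AddSubgroup.mem_bot] at h2
      exact Subtype.ext h2)
    rw [← toSet (fun v => (a : L2) ∈ KK o v)] at h1
    exact h1
  obtain ⟨a, ha0, hxa, haq⟩ := comp x hx hx8 hq
  constructor
  · have h1 := Count.card_mem hF (by convert h15') ha0 haq
    rw [← toSet (fun v => x ∈ KK o v), ← h1]
    congr 1
    ext v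
    simp only [Finset.mem_filter, Finset.mem_univ, true_and]
    exact memK hxa v
  · intro hne hb
    obtain ⟨a', ha0', hxa', haq'⟩ := comp x' hx' hx8' hq'
    have haa : a ≠ a' := by
      rintro rfl
      apply hne
      have h2 := (W8 o).add_mem hxa hxa'
      have e : x + (a : L2) + (x' + a) = x + x' := by
        calc x + (a : L2) + (x' + a) = x + x' + (a + a) := by abel
          _ = x + x' := by rw [add_self, add_zero]
      rwa [e] at h2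
    have hbb : bb C a a' = 0 := by
      rw [bb_apply]
      -- a = x + u, a' = x' + u'
      obtain ⟨u, hu, hau⟩ : ∃ u ∈ W8 o, (a : L2) = x + u := ⟨x + a, hxa, by
        calc (a : L2) = (x + x) + a := by rw [add_self, zero_add]
          _ = x + (x + a) := by abel⟩
      obtain ⟨u', hu', hau'⟩ : ∃ u' ∈ W8 o, (a' : L2) = x' + u' := ⟨x' + a', hxa', by
        calc (a' : L2) = (x' + x') + a' := by rw [add_self, zero_add]
          _ = x' + (x' + a') := by abel⟩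
      have p1 : ∀ y ∈ W16 o, ∀ t ∈ W8 o, bf y t = 0 := by
        intro y hy t ht
        have h4 : y ∈ perp (W8 o) := by rw [perp_W8]; exact hy
        exact h4 t ht
      rw [hau, hau', bf_add_left, bf_add_right, bf_add_right, hb, p1 x hx u' hu', bf_comm u x', p1 x' hx' u hu,
        p1 u (W8_le_W16 o hu) u' hu']
      rfl
    have h1 := Count.card_mem_two hF (by convert h15') ha0 haq ha0' haq' haa hbb
    rw [← toSet (fun v => x ∈ KK o v ∧ x' ∈ KK o v), ← h1]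
    congr 1
    ext v
    simp only [Finset.mem_filter, Finset.mem_univ, true_and]
    rw [memK hxa v, memK hxa' v]
    rfl

end

/-! ### The chart -/

variable {G : Type*} [Group G] {Q : Subgroup G} {z : G} {eta : G → L2}
  {pi : Subgroup.centralizer ({z} : Set G) →* Co1} {y τ : G} {o : golayCode}

/-- the fibres have two elements -/
theorem ncard_fib [Finite G] (h : Chart Q z eta pi) (S : Set L2) : {x | x ∈ Q ∧ eta x ∈ S}.ncard = 2 * S.ncard := by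
  choose r hrQ hr using h.eta_surj
  have h1 : {x | x ∈ Q ∧ eta x ∈ S} = (r '' S) ∪ ((fun s => r s * z) '' S) := by
    ext x
    constructor
    · rintro ⟨hxQ, hx⟩
      rcases (h.eta_eq hxQ (hrQ (eta x))).1 (hr _).symm with h2 | h2
      · exact Or.inl ⟨_, hx, h2.symm⟩
      · exact Or.inr ⟨_, hx, h2.symm⟩
    · rintro (⟨s, hs, rfl⟩ | ⟨s, hs, rfl⟩)
      · exact ⟨hrQ s, by rw [hr]; exact hs⟩
      · refine ⟨Q.mul_mem (hrQ s) h.large.z_mem, ?_⟩
        rw [h.eta_mul _ (hrQ s) _ h.large.z_mem, hr, h.eta_z, add_zero]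
        exact hs
  have i1 : Function.Injective r := fun s t hst => by rw [← hr s, hst, hr]
  have i2 : Function.Injective (fun s => r s * z) := fun s t hst => i1 (mul_right_cancel hst)
  rw [h1, Set.ncard_union_eq, Set.ncard_image_of_injective _ i1, Set.ncard_image_of_injective _ i2, two_mul]
  rw [Set.disjoint_left]
  rintro _ ⟨s, hs, rfl⟩ ⟨t, ht, hst⟩
  have hst' : r t * z = r s := hst
  have h2 : t = s := by
    have h3 := congrArg eta hst'
    rw [h.eta_mul _ (hrQ t) _ h.large.z_mem, hr, hr, h.eta_z, add_zero] at h3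
    exact h3
  subst h2
  have h3 : z = 1 := by
    have h4 : r t * z = r t * 1 := by rw [hst', mul_one]
    exact mul_left_cancel h4
  exact h.large.z_ne h3

theorem T_mem_ark (F : Fr Q z eta pi y τ) : T F.ch o ∈ (geo F.ch o).Ark := mem_Ark.2 ⟨1, (cj_one _).symm⟩

section

variable (ho : wt o = 8) (F : Fr Q z eta pi y τ) (hE : TE F.ch τ)
include ho F hE

/-- points over the classes of type 4 of `W8` -/
theorem twoB_of_pts [Finite G] {x : G} (hxQ : x ∈ Q) (hx : eta x ∈ pts o) : TwoB z x := by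
  obtain ⟨-, -, -, c, hcN, hcz, rfl, -⟩ := Cfsg.Agent.H848.TenC.conj_of_type_four F.ch (facts ho) F.hyQ F.hy F.τz F.τy hE
    (⟨hxQ, hx.1⟩ : x ∈ pre F.ch (W8 o)) hx.2
  exact F.twoB_y.conj c

theorem hopp [Finite G] : ∀ v ∈ pts o, ∀ w ∈ pts o, w ∉ Iv v → Iv v ⊓ Iv w ⊓ W16 o ≤ W8 o := by
  intro v hv w hw hwv x hx
  obtain ⟨v', hv'Q, rfl⟩ := F.ch.eta_surj v
  obtain ⟨w', hw'Q, rfl⟩ := F.ch.eta_surj w
  obtain ⟨x', hx'Q, rfl⟩ := F.ch.eta_surj x
  have ne : ∀ {p : G}, eta p ∈ pts o → p ≠ z := by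
    rintro p hp rfl
    rw [F.ch.eta_z] at hp
    exact not_zero_four hp.2
  have hvB := twoB_of_pts ho F hE hv'Q hv
  have hwB := twoB_of_pts ho F hE hw'Q hw
  have h1 : w' ∉ QQ Q z v' := fun h => hwv ((mem_QQ_IvP F hvB hv'Q (ne hv) hw'Q).1 h)
  have h2 : x' ∈ T F.ch o := by
    refine ArkA.opp_inf (facts ho) F hE (T F.ch o) ?_ v' (pre_W8_le F.ch ⟨hv'Q, hv.1⟩) hvB w'
      (pre_W8_le F.ch ⟨hw'Q, hw.1⟩) hwB h1 x' ?_ ?_ ?_
    · exact T_mem_ark F
    · exact (CC_T_Q F.ch hx'Q).2 hx.2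
    · exact (mem_QQ_IvP F hvB hv'Q (ne hv) hx'Q).2 hx.1.1
    · exact (mem_QQ_IvP F hwB hw'Q (ne hw) hx'Q).2 hx.1.2
  exact (mem_T_Q F.ch hx'Q).1 h2

/-- the elements of `KK` and of `KK o` -/
theorem mem_KK_iff [Finite G] {v s : G} (hvQ : v ∈ Q) (hv : eta v ∈ pts o) (hs : s ∈ CC (T F.ch o)) (hsQ : s ∈ Q) :
    s ∈ (geo F.ch o).KK (T F.ch o) v ↔ eta s ∈ KK o (eta v) := by
  have ne : v ≠ z := by
    rintro rfl
    rw [F.ch.eta_z] at hv
    exact not_zero_four hv.2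
  rw [mem_KK_IvP ho F hE (twoB_of_pts ho F hE hvQ hv) hvQ (pre_W8_le F.ch ⟨hvQ, hv.1⟩) ne hs hsQ]
  constructor
  · rintro ⟨a, b, ha, ha', hb, hab⟩
    rw [hab]
    exact AddSubgroup.add_mem_sup ⟨ha, ha'⟩ hb
  · intro h
    obtain ⟨a, ha, b, hb, hab⟩ := AddSubgroup.mem_sup.1 h
    exact ⟨a, b, ha.1, ha.2, hb, hab.symm⟩

theorem eta_mem_pts [Finite G] {v : G} (hv : v ∈ T F.ch o) (hvQ : v ∈ Q) (hvP : TwoB z v) (hne : v ≠ z) :
    eta v ∈ pts o := by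
  refine ⟨(mem_T_Q F.ch hvQ).1 hv, ?_⟩
  obtain ⟨g, rfl⟩ := hvP
  exact Cfsg.Agent.MonsterU.Fused.type_four_of_conj F.ch hvQ hne

theorem mem_KK_z {s : G} (hs : s ∈ CC (T F.ch o)) (hsQ : s ∈ Q) : s ∈ (geo F.ch o).KK (T F.ch o) z := by
  rw [mem_KK]
  exact ⟨s, hs, by rw [geo_QQ, F.QQ_z]; exact hsQ, 1, Subgroup.one_mem _, (mul_one s).symm⟩

/-- **The set `Vs`.** -/
theorem Vs_eq [Finite G] {s : G} (hs : s ∈ CC (T F.ch o)) (hsQ : s ∈ Q) (hsT : s ∉ T F.ch o) :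
    (geo F.ch o).Vs (T F.ch o) s = {x | x ∈ Q ∧ eta x ∈ insert 0 {v | v ∈ pts o ∧ eta s ∈ KK o v}} := by
  have Fo := facts ho
  ext v
  constructor
  · rintro (rfl | ⟨hvT, hvP, hK⟩)
    · exact ⟨Q.one_mem, Or.inl F.ch.eta_one⟩
    · have hvQ : v ∈ Q := by
        by_contra hvQ
        apply hsT
        refine Cfsg.Agent.R2.H4.Mon.VsGrp.KK_opp Fo F hE _ (T_mem_ark F) z (pre_W8_le F.ch (z_mem_pre F.ch _))
          (TwoB.self z) v hvT hvP ?_ s (mem_KK_z ho F hE hs hsQ) hK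
        rw [geo_QQ, F.QQ_z]
        exact hvQ
      refine ⟨hvQ, ?_⟩
      by_cases hvz : v = z
      · left; rw [hvz]; exact F.ch.eta_z
      · right
        have h1 := eta_mem_pts ho F hE hvT hvQ hvP hvz
        exact ⟨h1, (mem_KK_iff ho F hE hvQ h1 hs hsQ).1 hK⟩
  · rintro ⟨hvQ, h0 | ⟨h1, h2⟩⟩
    · rcases (F.ch.eta_zero v hvQ).1 h0 with rfl | rfl
      · exact Or.inl rfl
      · exact Or.inr ⟨pre_W8_le F.ch (z_mem_pre F.ch _), TwoB.self _, mem_KK_z ho F hE hs hsQ⟩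
    · exact Or.inr ⟨pre_W8_le F.ch ⟨hvQ, h1.1⟩, twoB_of_pts ho F hE hvQ h1, (mem_KK_iff ho F hE hvQ h1 hs hsQ).2 h2⟩

theorem zero_notMem (P : L2 → Prop) : (0 : L2) ∉ {v | v ∈ pts o ∧ P v} := fun h => not_zero_four h.1.2

theorem h15 [Finite G] : ∀ x ∈ W16 o, x ∉ W8 o → {v | v ∈ pts o ∧ x ∈ KK o v}.ncard ≤ 15 := by
  intro x hx hx8
  obtain ⟨s, hsQ, rfl⟩ := F.ch.eta_surj x
  have hs : s ∈ CC (T F.ch o) := (CC_T_Q F.ch hsQ).2 hx
  have hsT : s ∉ T F.ch o := fun h => hx8 ((mem_T_Q F.ch hsQ).1 h)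
  have h1 := Cfsg.Agent.R2.H4.Mon.VsGrp.ncard_Vs_le ho F hE (T_mem_ark F) hsT
  rw [Vs_eq ho F hE hs hsQ hsT, ncard_fib F.ch,
    Set.ncard_insert_of_notMem (zero_notMem ho F hE _) (Set.toFinite _)] at h1
  omega

/-- **(K3)** for the ark of the frame -/
theorem card_T [Finite G] {s : G} (hs : s ∈ CC (T F.ch o)) (hsQ : s ∈ Q) (hs2 : s * s = 1) (hsT : s ∉ T F.ch o) :
    ((geo F.ch o).Vs (T F.ch o) s).ncard = 32 := by
  have h1 := (count (facts ho) (hopp ho F hE) (h15 ho F hE) ((CC_T_Q F.ch hsQ).1 hs)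
    (fun h => hsT ((mem_T_Q F.ch hsQ).2 h)) ((F.ch.sq_one hsQ).1 hs2) ((CC_T_Q F.ch hsQ).1 hs)
    (fun h => hsT ((mem_T_Q F.ch hsQ).2 h)) ((F.ch.sq_one hsQ).1 hs2)).1
  rw [Vs_eq ho F hE hs hsQ hsT, ncard_fib F.ch,
    Set.ncard_insert_of_notMem (zero_notMem ho F hE _) (Set.toFinite _), h1]

/-- **(K4)** for the ark of the frame -/
theorem inter_T [Finite G] {s s' : G} (hs : s ∈ CC (T F.ch o)) (hsQ : s ∈ Q) (hs2 : s * s = 1) (hsT : s ∉ T F.ch o)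
    (hs' : s' ∈ CC (T F.ch o)) (hsQ' : s' ∈ Q) (hs2' : s' * s' = 1) (hsT' : s' ∉ T F.ch o) (hc : s * s' = s' * s)
    (hm : s * s' ∉ T F.ch o) :
    ((geo F.ch o).Vs (T F.ch o) s ∩ (geo F.ch o).Vs (T F.ch o) s').ncard = 8 := by
  have h1 := (count (facts ho) (hopp ho F hE) (h15 ho F hE) ((CC_T_Q F.ch hsQ).1 hs)
    (fun h => hsT ((mem_T_Q F.ch hsQ).2 h)) ((F.ch.sq_one hsQ).1 hs2) ((CC_T_Q F.ch hsQ').1 hs')
    (fun h => hsT' ((mem_T_Q F.ch hsQ').2 h)) ((F.ch.sq_one hsQ').1 hs2')).2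
    (fun h => hm ((mem_T_Q F.ch (Q.mul_mem hsQ hsQ')).2 (by rw [F.ch.eta_mul _ hsQ _ hsQ']; exact h)))
    ((F.ch.comm_iff hsQ hsQ').1 hc)
  have h2 : (geo F.ch o).Vs (T F.ch o) s ∩ (geo F.ch o).Vs (T F.ch o) s' =
      {x | x ∈ Q ∧ eta x ∈ insert 0 {v | v ∈ pts o ∧ (eta s ∈ KK o v ∧ eta s' ∈ KK o v)}} := by
    rw [Vs_eq ho F hE hs hsQ hsT, Vs_eq ho F hE hs' hsQ' hsT']
    ext x
    constructor
    · rintro ⟨⟨hxQ, h3⟩, -, h4⟩
      refine ⟨hxQ, ?_⟩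
      rcases h3 with h3 | h3
      · exact Or.inl h3
      · rcases h4 with h4 | h4
        · exact Or.inl h4
        · exact Or.inr ⟨h3.1, h3.2, h4.2⟩
    · rintro ⟨hxQ, h3 | h3⟩
      · exact ⟨⟨hxQ, Or.inl h3⟩, hxQ, Or.inl h3⟩
      · exact ⟨⟨hxQ, Or.inr ⟨h3.1, h3.2.1⟩⟩, hxQ, Or.inr ⟨h3.1, h3.2.2⟩⟩
  rw [h2, ncard_fib F.ch, Set.ncard_insert_of_notMem (zero_notMem ho F hE _) (Set.toFinite _), h1]

/-- **(K3)** -/
theorem V_card [Finite G] : ∀ O ∈ (geo F.ch o).Ark, ∀ z' ∈ O, z' ∈ (geo F.ch o).Pt → ∀ s ∈ CC O,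
    s ∈ (geo F.ch o).QQ z' → s * s = 1 → s ∉ O → ((geo F.ch o).Vs O s).ncard = 32 := by
  intro O hO z' hz' hP s hs hsQ hs2 hsO
  obtain ⟨k, rfl, rfl⟩ := std1 (facts ho) F hE hO hz' hP
  obtain ⟨s, rfl⟩ : ∃ s', s = k * s' * k⁻¹ := ⟨k⁻¹ * s * k, by group⟩
  rw [ncard_Vs]
  refine card_T ho F hE (CC_conj_iff.1 hs) ?_ ?_ (fun h => hsO (conj_mem_cj.2 h))
  · rw [geo_QQ, mem_QQ_conj F.ch.large (TwoB.self z), F.QQ_z] at hsQ
    exact hsQ
  · have e : k * s * k⁻¹ * (k * s * k⁻¹) = k * (s * s) * k⁻¹ := by group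
    rw [e] at hs2
    have h1 : s * s = k⁻¹ * (k * (s * s) * k⁻¹) * k := by group
    rw [h1, hs2]; group

/-- **(K4)** -/
theorem V_inter [Finite G] : ∀ O ∈ (geo F.ch o).Ark, ∀ z' ∈ O, z' ∈ (geo F.ch o).Pt → ∀ s ∈ CC O,
    s ∈ (geo F.ch o).QQ z' → s * s = 1 → s ∉ O → ∀ s' ∈ CC O, s' ∈ (geo F.ch o).QQ z' → s' * s' = 1 → s' ∉ O →
      s * s' = s' * s → s * s' ∉ O → 8 ≤ ((geo F.ch o).Vs O s ∩ (geo F.ch o).Vs O s').ncard := by
  intro O hO z' hz' hP s hs hsQ hs2 hsO s' hs' hsQ' hs2' hsO' hc hm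
  obtain ⟨k, rfl, rfl⟩ := std1 (facts ho) F hE hO hz' hP
  obtain ⟨s, rfl⟩ : ∃ s', s = k * s' * k⁻¹ := ⟨k⁻¹ * s * k, by group⟩
  obtain ⟨s', rfl⟩ : ∃ s'', s' = k * s'' * k⁻¹ := ⟨k⁻¹ * s' * k, by group⟩
  have back : ∀ {a b : G}, k * a * k⁻¹ = k * b * k⁻¹ → a = b := fun h => mul_left_cancel (mul_right_cancel h)
  have em : ∀ a b : G, k * a * k⁻¹ * (k * b * k⁻¹) = k * (a * b) * k⁻¹ := fun a b => by group
  have e1 : (1 : G) = k * 1 * k⁻¹ := by group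
  rw [em] at hs2 hs2' hm
  rw [em, em] at hc
  rw [e1] at hs2 hs2'
  rw [ncard_Vs_inter]
  rw [geo_QQ, mem_QQ_conj F.ch.large (TwoB.self z), F.QQ_z] at hsQ hsQ'
  exact (inter_T ho F hE (CC_conj_iff.1 hs) hsQ (back hs2) (fun h => hsO (conj_mem_cj.2 h)) (CC_conj_iff.1 hs') hsQ'
    (back hs2') (fun h => hsO' (conj_mem_cj.2 h)) (back hc) (fun h => hm (conj_mem_cj.2 h))).ge

end

end Cfsg.Agent.R2.H20.Mon.VCard
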