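import Cfsg.Agent.H848.TenA
import Cfsg.Agent.H861.RSextet
import Cfsg.Agent.SporadicA.XiSextet

/-!
# The isotropic subspaces `Iv v` of `Λ/2Λ` attached to the classes of type 4 (helper20)

`Iv v` is the image of `W12` under an element of `Co1` taking the frame class to `v`.

`card_inf_le` : `|Iv v ⊓ Iv w| ≤ 2 ^ 8` for `w ∈ Iv v`, `w ≠ v`.
-/

set_option autoImplicit false
set_option linter.unusedSectionVars false

open Cfsg

namespace Cfsg.Agent.R2.H20.Mon.Iv

open Cfsg.Agent.SporadicA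
open Cfsg.Agent.SporadicA.Co0Mono hiding smul_add smul_sub smul_neg smul_zero
open Cfsg.Agent.SporadicA.Co1Simple
open Cfsg.Agent.SporadicStructure.Co0Base (e8 e8_coe)
open Cfsg.Agent.CoOneType.CoOneE (pr E mem_E)
open Cfsg.Agent.MonsterU
open Cfsg.Agent.MonsterU.Lam2
open Cfsg.Agent.MonsterU.CoFrame
open Cfsg.Agent.MonsterU.CoFrameAct
open Cfsg.Agent.MonsterU.CoFrameL2
open Cfsg.Agent.H848.Dual (perp mem_perp card_perp perp_perp perp_anti)
open Cfsg.Spor (Co1)

/-- the image of `W12` for the class `v` -/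
def Iv (v : L2) : AddSubgroup L2 where
  carrier := {x | ∀ g : Co1, g • f0 = v → g⁻¹ • x ∈ W12}
  zero_mem' := fun g _ => by rw [smul_zero]; exact W12.zero_mem
  add_mem' := fun {a b} ha hb g hg => by rw [smul_add]; exact W12.add_mem (ha g hg) (hb g hg)
  neg_mem' := fun {a} ha g hg => by rw [neg_eq]; exact ha g hg

theorem mem_Iv {g : Co1} {v x : L2} (h : g • f0 = v) : x ∈ Iv v ↔ g⁻¹ • x ∈ W12 := by
  refine ⟨fun hx => hx g h, fun hx k hk => ?_⟩
  have h1 : (k⁻¹ * g) • f0 = f0 := by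
    rw [mul_smul, h, ← hk, inv_smul_smul]
  have h2 := F_mem_W12 ((mem_F_iff _).2 h1) hx
  rwa [mul_smul, smul_inv_smul] at h2

theorem Iv_f0 : Iv f0 = W12 := by
  ext x
  rw [mem_Iv (one_smul Co1 f0), inv_one, one_smul]

theorem smul_mem_Iv (g : Co1) {x v : L2} : g • x ∈ Iv (g • v) ↔ x ∈ Iv v := by
  constructor
  · intro h k hk
    have h1 := h (g * k) (by rw [mul_smul, hk])
    rwa [mul_inv_rev, mul_smul, inv_smul_smul] at h1
  · intro h k hk
    have h1 := h (g⁻¹ * k) (by rw [mul_smul, hk, inv_smul_smul])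
    rwa [mul_inv_rev, inv_inv, mul_smul] at h1

theorem exists_g {v : L2} (hv : IsType 4 v) : ∃ g : Co1, g • f0 = v := by
  obtain ⟨s, hs⟩ := AmalSideOf.exists_smul_f0 hv
  exact ⟨s⁻¹, by rw [← hs, inv_smul_smul]⟩

/-- the map by an element of `Co1` -/
noncomputable def mv (g : Co1) : L2 →+ L2 := DistribSMul.toAddMonoidHom L2 g

theorem mv_apply (g : Co1) (x : L2) : mv g x = g • x := rfl

theorem mv_inj (g : Co1) : Function.Injective (mv g) := MulAction.injective g

theorem Iv_smul (g : Co1) (v : L2) : Iv (g • v) = (Iv v).map (mv g) := by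
  ext x
  constructor
  · intro hx
    refine ⟨g⁻¹ • x, ?_, smul_inv_smul g x⟩
    rw [← smul_inv_smul g x] at hx
    exact (smul_mem_Iv g).1 hx
  · rintro ⟨y, hy, rfl⟩
    exact (smul_mem_Iv g).2 hy

theorem card_map (g : Co1) (S : AddSubgroup L2) : Nat.card (S.map (mv g)) = Nat.card S :=
  (Nat.card_congr (S.equivMapOfInjective _ (mv_inj g)).toEquiv).symm

theorem card_Iv {v : L2} (hv : IsType 4 v) : Nat.card (Iv v) = 2 ^ 12 := by
  obtain ⟨g, rfl⟩ := exists_g hv
  rw [Iv_smul, card_map, Iv_f0, CoFrameIrr.card_W12]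

theorem bf_Iv {v x y : L2} (hv : IsType 4 v) (hx : x ∈ Iv v) (hy : y ∈ Iv v) : bf x y = 0 := by
  obtain ⟨g, rfl⟩ := exists_g hv
  rw [mem_Iv rfl] at hx hy
  rw [← bf_smul1 g⁻¹]
  exact AmalGen.bf_W12 hx hy

theorem self_mem {v : L2} (hv : IsType 4 v) : v ∈ Iv v := by
  obtain ⟨g, rfl⟩ := exists_g hv
  rw [smul_mem_Iv, Iv_f0]
  exact W1_le_W12 f0_mem_W1

theorem mem_of_bf {v x : L2} (hv : IsType 4 v) (h : ∀ y ∈ Iv v, bf x y = 0) : x ∈ Iv v := by
  obtain ⟨g, rfl⟩ := exists_g hv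
  rw [mem_Iv rfl, ← H848.TenA.perp_W12, mem_perp]
  intro u hu
  rw [← bf_smul1 g, smul_inv_smul]
  apply h
  rw [smul_mem_Iv, Iv_f0]
  exact hu

theorem perp_Iv {v : L2} (hv : IsType 4 v) : perp (Iv v) = Iv v := by
  ext x
  rw [mem_perp]
  exact ⟨mem_of_bf hv, fun hx u hu => bf_Iv hv hx hu⟩

/-! ### Sextets -/

/-- A class of type 4 of `W12` other than the frame class. -/
theorem exists_sextet {v : L2} (hv : v ∈ W12) (h4 : IsType 4 v) (hne : v ≠ f0) :
    ∃ (T : GolayPt → Fin 6) (hT : Xi.IsSextet T) (c : golayCode),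
      v = (pr (signCo0 c) * pr (Xi.xiCo0 T hT)) • f0 := by
  obtain ⟨S, w, hS, rfl, h1, h2⟩ := H861.RSextet.exists_tetrad hv h4 hne
  obtain ⟨T, hT, hT0⟩ := XiSextet.exists_isSextet Cfsg.Agent.S0363.result S hS
  obtain ⟨p, hp⟩ : S.Nonempty := by rw [← Finset.card_pos, hS]; norm_num
  have hTp : T p = 0 := by rw [← Xi.mem_fib, hT0]; exact hp
  have hf : pr (Xi.xiCo0 T hT) • f0 = cl (Xi.xiCo0 T hT • e8 p) := by
    have h3 : f0 = cl (e8 p) := (cong_iff_cl _ _).1 (cong_e8 none p)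
    rw [h3, pr_smul_cl]
  have hsub : w - Xi.xiCo0 T hT • e8 p ∈ V1 := by
    refine H861.RSextet.sub_mem_V1 (T := S) h1 h2 ?_ ?_
    · intro i hi
      have hTi : T i = 0 := by rw [← Xi.mem_fib, hT0]; exact hi
      rw [CoOneType.InvClasses.xi_e8, if_pos hTi, if_pos (hTi.trans hTp.symm)]
      split_ifs <;> norm_num
    · intro i hi
      have hTi : T i ≠ 0 := by
        intro h
        apply hi
        rw [← hT0]
        exact Xi.mem_fib.2 h
      have hip : i ≠ p := by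
        rintro rfl
        exact hTi hTp
      rw [CoOneType.InvClasses.xi_e8, if_neg hTi, if_neg (by rw [hTp]; exact hTi), if_neg hip]
      norm_num
  have h3 : cl w - pr (Xi.xiCo0 T hT) • f0 ∈ W1 := by
    rw [hf, ← map_sub, cl_mem_W1]; exact hsub
  rcases (mem_W1 _).1 h3 with h4' | h4'
  · refine ⟨T, hT, 0, ?_⟩
    rw [signCo0_zero, map_one, one_mul]
    exact sub_eq_zero.1 h4'
  · have h5 : cl w = pr (Xi.xiCo0 T hT) • f0 + f0 := sub_eq_iff_eq_add'.1 h4'
    have hu : pr (Xi.xiCo0 T hT) • f0 ∈ W12 := by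
      have h6 := W12.sub_mem hv (W1_le_W12 f0_mem_W1)
      rwa [h5, add_sub_cancel_right] at h6
    have h7 : ∃ s ∈ E, s • (pr (Xi.xiCo0 T hT) • f0) ≠ pr (Xi.xiCo0 T hT) • f0 := by
      by_contra hcon
      push Not at hcon
      rcases (mem_W1 _).1 (mem_W1_of_E hcon) with h8 | h8
      · rw [h8, zero_add] at h5
        exact hne h5
      · rw [h8, add_self] at h5
        rw [h5] at h4
        obtain ⟨g, hg⟩ := exists_g h4
        have h9 : f0 = g⁻¹ • (0 : L2) := by rw [← hg, inv_smul_smul]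
        rw [smul_zero] at h9
        exact f0_ne h9
    obtain ⟨s, hs, hsne⟩ := h7
    obtain ⟨c, rfl⟩ := (mem_E _).1 hs
    refine ⟨T, hT, c, ?_⟩
    rw [mul_smul, h5]
    rcases (mem_W1 _).1 (E_sub_mem_W1 hs hu) with h8 | h8
    · exact absurd (sub_eq_zero.1 h8) hsne
    · exact (sub_eq_iff_eq_add'.1 h8).symm

theorem xi_duad {T : GolayPt → Fin 6} (hT : Xi.IsSextet T) (p r i : GolayPt) :
    2 * ((Xi.xiCo0 T hT • duad p r : leechLattice) : GolayPt → ℤ) i =
      (if T i = 0 then -1 else 1) *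
        (4 * ((if T i = T p then 1 else 0) - (if T i = T r then 1 else 0)) -
          8 * ((if i = p then 1 else 0) - (if i = r then 1 else 0))) := by
  rw [Xi.two_xiCo0_smul]
  have h1 : ∑ k ∈ Xi.fib T (T i), ((duad p r : leechLattice) : GolayPt → ℤ) k =
      4 * ((if T i = T p then 1 else 0) - (if T i = T r then 1 else 0)) := by
    simp only [duad_coe]
    rw [← Finset.mul_sum, Finset.sum_sub_distrib, Finset.sum_ite_eq', Finset.sum_ite_eq']
    congr 1
    congr 1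
    · by_cases h : T i = T p
      · rw [if_pos (Xi.mem_fib.2 h.symm), if_pos h]
      · rw [if_neg (fun h' => h (Xi.mem_fib.1 h').symm), if_neg h]
    · by_cases h : T i = T r
      · rw [if_pos (Xi.mem_fib.2 h.symm), if_pos h]
      · rw [if_neg (fun h' => h (Xi.mem_fib.1 h').symm), if_neg h]
  rw [h1, duad_coe]
  ring

theorem xi_duad_zero {T : GolayPt → Fin 6} (hT : Xi.IsSextet T) {p r i : GolayPt} (h1 : T i ≠ T p) (h2 : T i ≠ T r) :
    ((Xi.xiCo0 T hT • duad p r : leechLattice) : GolayPt → ℤ) i = 0 := by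
  have h3 := xi_duad hT p r i
  have e1 : i ≠ p := fun h => h1 (by rw [h])
  have e2 : i ≠ r := fun h => h2 (by rw [h])
  rw [if_neg h1, if_neg h2, if_neg e1, if_neg e2] at h3
  have h4 : 2 * ((Xi.xiCo0 T hT • duad p r : leechLattice) : GolayPt → ℤ) i = 0 := by rw [h3]; ring
  omega

theorem xi_duad_two {T : GolayPt → Fin 6} (hT : Xi.IsSextet T) {p r i : GolayPt} (h1 : T i ≠ T p) (h2 : T i = T r) :
    ((Xi.xiCo0 T hT • duad p r : leechLattice) : GolayPt → ℤ) i = 2 ∨
      ((Xi.xiCo0 T hT • duad p r : leechLattice) : GolayPt → ℤ) i = -2 := by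
  have h3 := xi_duad hT p r i
  have e1 : i ≠ p := fun h => h1 (by rw [h])
  rw [if_neg h1, if_pos h2, if_neg e1] at h3
  by_cases h0 : T i = 0 <;> by_cases hr : i = r
  · rw [if_pos h0, if_pos hr] at h3; omega
  · rw [if_pos h0, if_neg hr] at h3; omega
  · rw [if_neg h0, if_pos hr] at h3; omega
  · rw [if_neg h0, if_neg hr] at h3; omega

theorem dot_duad (a b : GolayPt) (w : GolayPt → ℤ) :
    dotInt ((duad a b : leechLattice) : GolayPt → ℤ) w = 4 * (w a - w b) := by
  unfold dotInt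
  have h1 : ∀ i, ((duad a b : leechLattice) : GolayPt → ℤ) i * w i =
      (if i = a then 4 * w i else 0) - (if i = b then 4 * w i else 0) := by
    intro i
    rw [duad_coe]
    split_ifs <;> ring
  rw [Finset.sum_congr rfl fun i _ => h1 i, Finset.sum_sub_distrib, Finset.sum_ite_eq', Finset.sum_ite_eq']
  simp
  ring

theorem bf_zero' {T : GolayPt → Fin 6} (hT : Xi.IsSextet T) (c : golayCode) {a b p r : GolayPt}
    (h1 : T a ≠ T p) (h2 : T a ≠ T r) (h3 : T b ≠ T p) (h4 : T b ≠ T r) :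
    bf (cl (duad a b)) ((pr (signCo0 c) * pr (Xi.xiCo0 T hT)) • cl (duad p r)) = 0 := by
  rw [mul_smul, pr_smul_cl, pr_smul_cl, bf_cl_eq_zero, dot_duad, signCo0_smul, signMap_apply, signMap_apply,
    xi_duad_zero hT h1 h2, xi_duad_zero hT h3 h4]
  norm_num

theorem bf_one' {T : GolayPt → Fin 6} (hT : Xi.IsSextet T) (c : golayCode) {a b p r : GolayPt}
    (h1 : T a ≠ T p) (h2 : T a = T r) (h3 : T b ≠ T p) (h4 : T b ≠ T r) :
    bf (cl (duad a b)) ((pr (signCo0 c) * pr (Xi.xiCo0 T hT)) • cl (duad p r)) = 1 := by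
  have key : ∀ x : ZMod 2, x ≠ 0 → x = 1 := by decide
  apply key
  intro h0
  rw [mul_smul, pr_smul_cl, pr_smul_cl, bf_cl_eq_zero, dot_duad, signCo0_smul, signMap_apply, signMap_apply,
    xi_duad_zero hT h3 h4] at h0
  have hs : sgn ((c : GolayPt → ZMod 2) a) = 1 ∨ sgn ((c : GolayPt → ZMod 2) a) = -1 := by
    rcases Cfsg.Agent.SporadicStructure.LeechBase.zmod2_cases ((c : GolayPt → ZMod 2) a) with h | h
    · rw [h]; left; decide
    · rw [h]; right; decide
  rcases hs with hs | hs <;> rcases xi_duad_two hT h1 h2 with hx | hx <;> rw [hs, hx] at h0 <;> norm_num at h0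

/-! ### The intersection -/

theorem card_le_of_surj {U : AddSubgroup L2} (b : Fin 4 → L2) (a : Fin 4 → L2) (ha : ∀ k, a k ∈ U)
    (hab : ∀ k j, bf (a k) (b j) = if k = j then 1 else 0) {D : AddSubgroup L2} (hD : D ≤ U)
    (hDb : ∀ x ∈ D, ∀ j, bf x (b j) = 0) : Nat.card D * 16 ≤ Nat.card U := by
  let φ : U →+ (Fin 4 → ZMod 2) :=
    { toFun := fun x j => bf (x : L2) (b j)
      map_zero' := by funext j; exact bf_zero_left _
      map_add' := fun x y => by funext j; exact bf_add_left _ _ _ }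
  have hφ : ∀ (x : U) (j : Fin 4), φ x j = bf (x : L2) (b j) := fun _ _ => rfl
  have hsurj : Function.Surjective φ := by
    intro f
    let x : U := ∑ k : Fin 4, if f k = 1 then ⟨a k, ha k⟩ else 0
    refine ⟨x, ?_⟩
    have h1 : φ x = ∑ k : Fin 4, if f k = 1 then φ ⟨a k, ha k⟩ else 0 := by
      simp only [x, map_sum]
      refine Finset.sum_congr rfl fun k _ => ?_
      split_ifs
      · rfl
      · exact map_zero φ
    have h2 : ∀ k, φ ⟨a k, ha k⟩ = Pi.single k 1 := by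
      intro k
      funext j
      rw [hφ, Pi.single_apply]
      show bf (a k) (b j) = _
      rw [hab]
      by_cases h : k = j
      · rw [if_pos h, if_pos h.symm]
      · rw [if_neg h, if_neg (Ne.symm h)]
    rw [h1]
    funext j
    rw [Finset.sum_apply, Finset.sum_eq_single j]
    · rcases Cfsg.Agent.SporadicStructure.LeechBase.zmod2_cases (f j) with h | h
      · rw [h, if_neg (by decide)]; rfl
      · rw [h, if_pos rfl, h2, Pi.single_eq_same]
    · intro k _ hkj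
      split_ifs
      · rw [h2, Pi.single_eq_of_ne (Ne.symm hkj)]
      · rfl
    · intro h; exact absurd (Finset.mem_univ _) h
  have h3 : Nat.card U = Nat.card (U ⧸ φ.ker) * Nat.card φ.ker :=
    AddSubgroup.card_eq_card_quotient_mul_card_addSubgroup φ.ker
  have h4 : Nat.card (U ⧸ φ.ker) = 16 := by
    rw [Nat.card_congr (QuotientAddGroup.quotientKerEquivOfSurjective φ hsurj).toEquiv]
    simp
  have h5 : Nat.card D ≤ Nat.card φ.ker := by
    apply Nat.card_le_card_of_injective (fun x : D => (⟨⟨x, hD x.2⟩, by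
      rw [AddMonoidHom.mem_ker]
      funext j
      exact hDb x x.2 j⟩ : φ.ker))
    intro x y hxy
    have := congrArg (fun u : φ.ker => ((u : U) : L2)) hxy
    exact Subtype.ext this
  rw [h3, h4]
  omega

theorem card_inf_frame {v : L2} (hv : v ∈ W12) (h4 : IsType 4 v) (hne : v ≠ f0) :
    Nat.card (W12 ⊓ Iv v : AddSubgroup L2) ≤ 2 ^ 8 := by
  obtain ⟨T, hT, c, hvg⟩ := exists_sextet hv h4 hne
  -- a point in each tetrad
  have hpt : ∀ k : Fin 6, ∃ p, T p = k := by
    intro k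
    obtain ⟨p, hp⟩ : (Xi.fib T k).Nonempty := by rw [← Finset.card_pos, hT.card]; norm_num
    exact ⟨p, Xi.mem_fib.1 hp⟩
  choose t ht using hpt
  have h1 := card_le_of_surj (U := W12)
    (fun j => (pr (signCo0 c) * pr (Xi.xiCo0 T hT)) • cl (duad (t 0) (t (Fin.castSucc j).succ)))
    (fun k => cl (duad (t (Fin.castSucc k).succ) (t 5)))
    (fun k => cl_mem_W12.2 (duad_mem _ _)) ?_ (D := W12 ⊓ Iv v) inf_le_left ?_
  · rw [CoFrameIrr.card_W12] at h1
    omega
  · intro k j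
    have e0 : ∀ k : Fin 4, T (t (Fin.castSucc k).succ) ≠ T (t 0) := by
      intro k; rw [ht, ht]; exact Fin.succ_ne_zero _
    have e5 : ∀ j : Fin 4, T (t 5) ≠ T (t (Fin.castSucc j).succ) := by
      intro j; rw [ht, ht]; revert j; decide
    have e50 : T (t 5) ≠ T (t 0) := by rw [ht, ht]; decide
    split_ifs with hkj
    · subst hkj
      exact bf_one' hT c (e0 k) rfl e50 (e5 k)
    · refine bf_zero' hT c (e0 k) ?_ e50 (e5 j)
      rw [ht, ht]
      intro h
      apply hkj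
      exact Fin.castSucc_injective _ (Fin.succ_injective _ h)
  · rintro x ⟨-, hx⟩ j
    refine bf_Iv h4 hx ?_
    rw [hvg, smul_mem_Iv, Iv_f0]
    exact cl_mem_W12.2 (duad_mem _ _)

/-- **The intersection of two of them.** -/
theorem card_inf_le {v w : L2} (hv : IsType 4 v) (hw : IsType 4 w) (hwv : w ∈ Iv v) (hne : w ≠ v) :
    Nat.card (Iv v ⊓ Iv w : AddSubgroup L2) ≤ 2 ^ 8 := by
  obtain ⟨g, rfl⟩ := exists_g hv
  have hw1 : g⁻¹ • w ∈ W12 := (mem_Iv rfl).1 hwv
  have h1 := card_inf_frame hw1 (hw.smul1 g⁻¹) (fun h => hne (by rw [← h, smul_inv_smul]))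
  have h2 : (Iv (g • f0) ⊓ Iv w : AddSubgroup L2) = (W12 ⊓ Iv (g⁻¹ • w)).map (mv g) := by
    rw [AddSubgroup.map_inf _ _ _ (mv_inj g), ← Iv_smul, smul_inv_smul, Iv_smul, Iv_f0]
  rw [h2, card_map]
  exact h1

/-- symmetry -/
theorem symm {v w : L2} (hv : IsType 4 v) (hw : IsType 4 w) (hwv : w ∈ Iv v) : v ∈ Iv w := by
  obtain ⟨g, rfl⟩ := exists_g hv
  have hw1 : g⁻¹ • w ∈ W12 := (mem_Iv rfl).1 hwv
  have key : f0 ∈ Iv (g⁻¹ • w) := by
    by_cases h0 : g⁻¹ • w = f0
    · rw [h0, Iv_f0]; exact W1_le_W12 f0_mem_W1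
    · obtain ⟨T, hT, c, hvg⟩ := exists_sextet hw1 (hw.smul1 g⁻¹) h0
      rw [mem_Iv hvg.symm, mul_inv_rev, mul_smul]
      have h2 : (pr (signCo0 c))⁻¹ • f0 = f0 := by
        rw [inv_smul_eq_iff]
        exact (smul_f0 (E_le_F ((mem_E _).2 ⟨c, rfl⟩))).symm
      have h3 : (pr (Xi.xiCo0 T hT))⁻¹ = pr (Xi.xiCo0 T hT) := by
        rw [inv_eq_iff_mul_eq_one, ← map_mul]
        have : Xi.xiCo0 T hT * Xi.xiCo0 T hT = 1 := by
          apply Co0Mono.ext
          intro x
          apply Subtype.ext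
          rw [mul_smul, Xi.xiCo0_smul, Xi.xiCo0_smul, Xi.xiFun_xiFun hT x.2, one_smul]
        rw [this, map_one]
      rw [h2, h3]
      have h4 : pr (Xi.xiCo0 T hT) • f0 = (pr (signCo0 c))⁻¹ • (g⁻¹ • w) := by
        rw [hvg, mul_smul, inv_smul_smul]
      rw [h4]
      exact F_mem_W12 (F.inv_mem (E_le_F ((mem_E _).2 ⟨c, rfl⟩))) hw1
  have h1 := (smul_mem_Iv g).2 key
  rwa [smul_inv_smul] at h1

end Cfsg.Agent.R2.H20.Mon.Iv
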