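import Cfsg.Agent.R2.H20.Mon.Iv
import Cfsg.Agent.R2.M7.Count
import Cfsg.Agent.S0289

/-!
# The 135 totally singular subspaces of `W16 o / W8 o` (helper20)

`KK v = (Iv v ⊓ W16 o) ⊔ W8 o` for a class `v` of type 4 of `W8 o`.
-/

set_option autoImplicit false
set_option linter.unusedSectionVars false

open Cfsg

namespace Cfsg.Agent.R2.H20.Mon.IvFam

open Cfsg.Agent.SporadicA.Co1Simple (allOne)
open Cfsg.Agent.MonsterU
open Cfsg.Agent.MonsterU.Lam2
open Cfsg.Agent.MonsterU.CoFrameL2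
open Cfsg.Agent.H848.Dual (perp mem_perp card_perp perp_perp perp_anti sub card_sub mem_sub)
open Cfsg.Agent.H848.Oct
open Cfsg.Agent.H848.TenA (Facts perp_inf add_mem_W12 exists_out)
open Cfsg.Agent.R2.H20.Mon.Iv
open Cfsg.Spor (Co1)

theorem zmod_cases : ∀ a : ZMod 2, a = 0 ∨ a = 1 := by decide

/-! ### Sizes of sums -/

theorem sub_sup (A B : AddSubgroup L2) : sub (A ⊔ B) = sub A ⊔ sub B := by
  unfold sub
  exact map_sup _ _ _

theorem sub_inf (A B : AddSubgroup L2) : sub (A ⊓ B) = sub A ⊓ sub B := by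
  unfold sub
  exact map_inf _ _ _

theorem card_sup_inf (A B : AddSubgroup L2) :
    Nat.card (A ⊔ B : AddSubgroup L2) * Nat.card (A ⊓ B : AddSubgroup L2) = Nat.card A * Nat.card B := by
  rw [card_sub (A ⊔ B), card_sub (A ⊓ B), card_sub A, card_sub B, ← pow_add, ← pow_add, sub_sup, sub_inf,
    Submodule.finrank_sup_add_finrank_inf_eq]

/-- relative complements -/
theorem exists_compl {A B : AddSubgroup L2} (h : A ≤ B) : ∃ C : AddSubgroup L2, C ≤ B ∧ C ⊓ A = ⊥ ∧ C ⊔ A = B := by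
  obtain ⟨D, hD⟩ := Submodule.exists_isCompl (sub A)
  refine ⟨(AddSubgroup.toZModSubmodule 2).symm D ⊓ B, inf_le_right, ?_, ?_⟩
  · rw [eq_bot_iff]
    rintro x ⟨⟨hxD, -⟩, hxA⟩
    have h1 : x ∈ sub A ⊓ D := ⟨hxA, hxD⟩
    rw [hD.inf_eq_bot, Submodule.mem_bot] at h1
    exact h1
  · apply le_antisymm (sup_le inf_le_right h)
    intro x hx
    have h1 : x ∈ sub A ⊔ D := by rw [hD.sup_eq_top]; trivial
    obtain ⟨a, ha, d, hd, rfl⟩ := Submodule.mem_sup.1 h1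
    rw [add_comm]
    refine AddSubgroup.add_mem_sup ⟨hd, ?_⟩ ha
    have h2 := B.sub_mem hx (h ha)
    rwa [add_sub_cancel_left] at h2

/-! ### The form on `W8` -/

/-- the space of dimension 8 -/
abbrev V4 := Fin 4 ⊕ Fin 4 → ZMod 2

/-- the polar form in coordinates -/
def pol (u v : V4) : ZMod 2 :=
  quadFormPlus 4 (ZMod 2) (u + v) + quadFormPlus 4 (ZMod 2) u + quadFormPlus 4 (ZMod 2) v

theorem pol_eq (u v : V4) : pol u v = ∑ i, (u (Sum.inl i) * v (Sum.inr i) + u (Sum.inr i) * v (Sum.inl i)) := by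
  unfold pol quadFormPlus
  simp only [Pi.add_apply, ← Finset.sum_add_distrib]
  apply Finset.sum_congr rfl
  intro i _
  generalize u (Sum.inl i) = a1
  generalize u (Sum.inr i) = a2
  generalize v (Sum.inl i) = b1
  generalize v (Sum.inr i) = b2
  revert a1 a2 b1 b2
  decide

theorem pol_add (u v w : V4) : pol (u + v) w = pol u w + pol v w := by
  rw [pol_eq, pol_eq, pol_eq, ← Finset.sum_add_distrib]
  apply Finset.sum_congr rfl
  intro i _
  rw [Pi.add_apply, Pi.add_apply]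
  ring

theorem pol_nondeg {u : V4} (hu : u ≠ 0) : ∃ v, pol v u = 1 := by
  obtain ⟨i, hi⟩ := Function.ne_iff.1 hu
  have hi1 : u i = 1 := (zmod_cases _).resolve_left hi
  rcases i with i | i
  · refine ⟨Pi.single (Sum.inr i) 1, ?_⟩
    rw [pol_eq]
    rw [Finset.sum_eq_single i]
    · rw [Pi.single_eq_same, hi1, Pi.single_eq_of_ne (by simp)]; simp
    · intro j _ hj
      rw [Pi.single_eq_of_ne (by simp), Pi.single_eq_of_ne (by simpa using hj)]; simp
    · intro h1; exact absurd (Finset.mem_univ _) h1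
  · refine ⟨Pi.single (Sum.inl i) 1, ?_⟩
    rw [pol_eq]
    rw [Finset.sum_eq_single i]
    · rw [Pi.single_eq_same, hi1, Pi.single_eq_of_ne (by simp)]; simp
    · intro j _ hj
      rw [Pi.single_eq_of_ne (by simpa using hj), Pi.single_eq_of_ne (by simp)]; simp
    · intro h1; exact absurd (Finset.mem_univ _) h1

theorem q8_smul (g : Co1) (x : L2) : q8 (g • x) = q8 x := by
  have h : IsType 2 (g • x) ↔ IsType 2 x := by
    constructor
    · intro h
      have h1 := h.smul1 g⁻¹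
      rwa [inv_smul_smul] at h1
    · exact fun h => h.smul1 g
  unfold q8
  by_cases h2 : IsType 2 x
  · rw [if_pos h2, if_pos (h.2 h2)]
  · rw [if_neg h2, if_neg (fun h3 => h2 (h.1 h3))]

/-- the classes of type 4 of `W8` -/
def pts (o : golayCode) : Set L2 := {v | v ∈ W8 o ∧ IsType 4 v}

theorem not_zero_four : ¬ IsType 4 (0 : L2) := by
  intro h
  obtain ⟨g, hg⟩ := exists_g h
  have h9 : f0 = g⁻¹ • (0 : L2) := by rw [← hg, inv_smul_smul]
  rw [smul_zero] at h9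
  exact f0_ne h9

section

variable {o : golayCode} (F : Facts o)
include F

theorem mem_pts_iff {v : L2} : v ∈ pts o ↔ v ∈ W8 o ∧ v ≠ 0 ∧ q8 v = 0 := by
  constructor
  · rintro ⟨h1, h2⟩
    refine ⟨h1, fun h => not_zero_four (h ▸ h2), ?_⟩
    obtain ⟨g, rfl⟩ := exists_g h2
    rw [q8_smul, H848.TenA.q8_f0 F]
  · rintro ⟨h1, h2, h3⟩
    refine ⟨h1, ?_⟩
    rcases F.type8 v h1 with h | h | h
    · exact absurd h h2
    · unfold q8 at h3
      rw [if_pos h] at h3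
      exact absurd h3 one_ne_zero
    · exact h

theorem q8_zero' : q8 (0 : L2) = 0 := H848.TenA.q8_zero F

/-- the number of the classes of type 4 of `W8` -/
theorem card_pts : Nat.card (pts o) = 135 := by
  obtain ⟨b, hb⟩ := F.hyp
  have h1 : Nat.card {v : V4 // quadFormPlus 4 (ZMod 2) v = 0} = 136 := by
    have := Cfsg.Agent.S0289.result (F := ZMod 2) (q := 2) (ZMod.card 2) 4 (by norm_num)
    rw [this]; norm_num
  have h2 : ({v : V4 | quadFormPlus 4 (ZMod 2) v = 0} \ {0}).ncard = 135 := by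
    rw [Set.ncard_sdiff_singleton_of_mem]
    · rw [← Nat.card_coe_set_eq]
      have : Nat.card {v : V4 | quadFormPlus 4 (ZMod 2) v = 0} = 136 := h1
      rw [this]
    · show quadFormPlus 4 (ZMod 2) 0 = 0
      unfold quadFormPlus
      simp
  have h3 : pts o = (fun v => (b v : L2)) '' ({v : V4 | quadFormPlus 4 (ZMod 2) v = 0} \ {0}) := by
    ext x
    rw [mem_pts_iff F]
    constructor
    · rintro ⟨hx, hx0, hq⟩
      refine ⟨b.symm ⟨x, hx⟩, ⟨?_, ?_⟩, ?_⟩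
      · show quadFormPlus 4 (ZMod 2) _ = 0
        rw [← hb, b.apply_symm_apply]
        exact hq
      · intro h
        have h4 : b.symm ⟨x, hx⟩ = 0 := h
        rw [AddEquiv.map_eq_zero_iff] at h4
        exact hx0 (congrArg Subtype.val h4)
      · show (b (b.symm ⟨x, hx⟩) : L2) = x
        rw [b.apply_symm_apply]
    · rintro ⟨v, ⟨hv, hv0⟩, rfl⟩
      refine ⟨(b v).2, ?_, ?_⟩
      · intro h0
        apply hv0
        have h4 : b v = 0 := Subtype.ext h0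
        exact (AddEquiv.map_eq_zero_iff b).1 h4
      · show q8 (b v : L2) = 0
        rw [hb]
        exact hv
  rw [Nat.card_coe_set_eq, h3, Set.ncard_image_of_injective _ (fun u v huv => b.injective (Subtype.ext huv)), h2]

/-- the elements of `W8` in `Iv v` -/
theorem mem_Iv_iff {v x : L2} (hv : v ∈ pts o) (hx : x ∈ W8 o) : x ∈ Iv v ↔ q8 (x + v) + q8 x = 0 := by
  obtain ⟨g, hg, rfl⟩ := F.trans v hv.1 hv.2
  have hx' : g⁻¹ • x ∈ W8 o := CO_mem_W8 ((CO o).inv_mem hg) hx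
  rw [mem_Iv rfl, F.frame _ hx', ← q8_smul g, ← q8_smul g (g⁻¹ • x), smul_add, smul_inv_smul]
  generalize q8 (x + g • f0) = a
  generalize q8 x = b
  revert a b; decide

/-- the functional on `W8` -/
theorem exists_fn {v : L2} (hv : v ∈ W8 o) (hq : q8 v = 0) :
    ∃ f : W8 o →+ ZMod 2, ∀ x : W8 o, f x = q8 ((x : L2) + v) + q8 (x : L2) := by
  refine ⟨AddMonoidHom.mk' (fun x => q8 ((x : L2) + v) + q8 (x : L2)) fun x y => ?_, fun x => rfl⟩
  have h := H848.TenA.q8_three F x.2 y.2 hv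
  rw [hq] at h
  have e : ((x + y : W8 o) : L2) = (x : L2) + y := rfl
  rw [e]
  generalize q8 ((x : L2) + y + v) = a at h ⊢
  generalize q8 ((x : L2) + y) = b at h ⊢
  generalize q8 ((x : L2) + v) = c at h ⊢
  generalize q8 (x : L2) = d at h ⊢
  generalize q8 ((y : L2) + v) = e at h ⊢
  generalize q8 (y : L2) = f at h ⊢
  revert a b c d e f
  decide

/-- nondegeneracy -/
theorem exists_q8 {v : L2} (hv : v ∈ W8 o) (h0 : v ≠ 0) : ∃ x ∈ W8 o, q8 (x + v) + q8 x + q8 v = 1 := by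
  obtain ⟨b, hb⟩ := F.hyp
  obtain ⟨u, hu⟩ := b.surjective ⟨v, hv⟩
  have hu' : (b u : L2) = v := congrArg Subtype.val hu
  have hu0 : u ≠ 0 := by
    rintro rfl
    rw [map_zero] at hu'
    exact h0 hu'.symm
  obtain ⟨w, hw⟩ := pol_nondeg hu0
  refine ⟨b w, (b w).2, ?_⟩
  have e : (b w : L2) + v = (b (w + u) : L2) := by
    rw [map_add, AddSubgroup.coe_add, hu']
  rw [e, ← hu', hb, hb, hb]
  exact hw

/-- the additivity in the second variable -/
theorem q8_add {v w x : L2} (hv : v ∈ W8 o) (hw : w ∈ W8 o) (hx : x ∈ W8 o) :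
    q8 (x + (v + w)) + q8 x + q8 (v + w) = (q8 (x + v) + q8 x + q8 v) + (q8 (x + w) + q8 x + q8 w) := by
  have h := H848.TenA.q8_three F hv hw hx
  rw [add_comm x (v + w), add_comm x v, add_comm x w]
  generalize q8 (v + w + x) = a at h ⊢
  generalize q8 (v + w) = b at h ⊢
  generalize q8 (v + x) = c at h ⊢
  generalize q8 v = d at h ⊢
  generalize q8 (w + x) = e at h ⊢
  generalize q8 w = f at h ⊢
  generalize q8 x = g at h ⊢
  revert a b c d e f g
  decide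

theorem card_inf8 {v : L2} (hv : v ∈ pts o) : Nat.card (Iv v ⊓ W8 o : AddSubgroup L2) = 2 ^ 7 := by
  obtain ⟨-, h0, hq⟩ := (mem_pts_iff F).1 hv
  obtain ⟨f, hf⟩ := exists_fn F hv.1 hq
  have hsurj : Function.Surjective f := by
    intro a
    rcases zmod_cases a with rfl | rfl
    · exact ⟨0, map_zero f⟩
    · obtain ⟨x, hx, h1⟩ := exists_q8 F hv.1 h0
      refine ⟨⟨x, hx⟩, ?_⟩
      rw [hf]
      rw [hq, add_zero] at h1
      exact h1
  have h3 : Nat.card (W8 o) = Nat.card (W8 o ⧸ f.ker) * Nat.card f.ker :=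
    AddSubgroup.card_eq_card_quotient_mul_card_addSubgroup f.ker
  rw [Nat.card_congr (QuotientAddGroup.quotientKerEquivOfSurjective f hsurj).toEquiv, H848.TenA.card_W8 F,
    Nat.card_zmod] at h3
  have h4 : Nat.card (Iv v ⊓ W8 o : AddSubgroup L2) = Nat.card f.ker := by
    apply Nat.card_congr
    refine ⟨fun x => ⟨⟨x, x.2.2⟩, ?_⟩, fun x => ⟨(x : W8 o), ?_, (x : W8 o).2⟩, fun x => rfl, fun x => rfl⟩
    · rw [AddMonoidHom.mem_ker, hf]
      exact (mem_Iv_iff F hv x.2.2).1 x.2.1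
    · have h5 := x.2
      rw [AddMonoidHom.mem_ker, hf] at h5
      exact (mem_Iv_iff F hv (x : W8 o).2).2 h5
  rw [h4]
  omega

/-- two different classes -/
theorem exists_sep {v w : L2} (hv : v ∈ pts o) (hw : w ∈ pts o) (hne : v ≠ w) :
    ∃ x ∈ W8 o, x ∉ Iv v ∧ x ∈ Iv w := by
  obtain ⟨-, hv0, hvq⟩ := (mem_pts_iff F).1 hv
  obtain ⟨-, hw0, hwq⟩ := (mem_pts_iff F).1 hw
  have hvw : v + w ≠ 0 := fun h => hne (eq_of_add_eq_zero h)
  obtain ⟨x1, hx1, h1⟩ := exists_q8 F hv.1 hv0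
  obtain ⟨x3, hx3, h3⟩ := exists_q8 F ((W8 o).add_mem hv.1 hw.1) hvw
  rw [q8_add F hv.1 hw.1 hx3, hvq, hwq] at h3
  rw [hvq, add_zero] at h1
  obtain ⟨fv, hfv⟩ := exists_fn F hv.1 hvq
  obtain ⟨fw, hfw⟩ := exists_fn F hw.1 hwq
  have key : ∃ x : W8 o, fv x = 1 ∧ fw x = 0 := by
    have a1 : fv ⟨x1, hx1⟩ = 1 := by rw [hfv]; exact h1
    rcases zmod_cases (fw ⟨x1, hx1⟩) with a2 | a2
    · exact ⟨_, a1, a2⟩
    · have a3 : fv ⟨x3, hx3⟩ + fw ⟨x3, hx3⟩ = 1 := by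
        rw [hfv, hfw]
        rw [add_zero, add_zero] at h3
        exact h3
      rcases zmod_cases (fw ⟨x3, hx3⟩) with a4 | a4
      · rw [a4, add_zero] at a3
        exact ⟨_, a3, a4⟩
      · have a5 : fv ⟨x3, hx3⟩ = 0 := by
          rw [a4] at a3
          generalize fv ⟨x3, hx3⟩ = t at a3 ⊢
          revert t; decide
        refine ⟨⟨x1, hx1⟩ + ⟨x3, hx3⟩, ?_, ?_⟩
        · rw [map_add, a1, a5]; rfl
        · rw [map_add, a2, a4]; rfl
  obtain ⟨x, hx1, hx2⟩ := key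
  refine ⟨x, x.2, ?_, ?_⟩
  · rw [mem_Iv_iff F hv x.2, ← hfv, hx1]
    exact one_ne_zero
  · rw [mem_Iv_iff F hw x.2, ← hfw, hx2]

/-- the hyperplanes generate -/
theorem decomp {v w u : L2} (hv : v ∈ pts o) (hw : w ∈ pts o) (hne : v ≠ w) (hu : u ∈ W8 o) :
    ∃ p ∈ W8 o, p ∈ Iv v ∧ ∃ p' ∈ W8 o, p' ∈ Iv w ∧ u = p + p' := by
  by_cases huv : u ∈ Iv v
  · exact ⟨u, hu, huv, 0, (W8 o).zero_mem, (Iv w).zero_mem, (add_zero u).symm⟩
  · obtain ⟨x, hx, hxv, hxw⟩ := exists_sep F hv hw hne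
    obtain ⟨-, hv0, hvq⟩ := (mem_pts_iff F).1 hv
    obtain ⟨fv, hfv⟩ := exists_fn F hv.1 hvq
    refine ⟨u - x, (W8 o).sub_mem hu hx, ?_, x, hx, hxw, (sub_add_cancel u x).symm⟩
    rw [mem_Iv_iff F hv hu, ← hfv ⟨u, hu⟩] at huv
    rw [mem_Iv_iff F hv hx, ← hfv ⟨x, hx⟩] at hxv
    rw [mem_Iv_iff F hv ((W8 o).sub_mem hu hx), ← hfv ⟨u - x, (W8 o).sub_mem hu hx⟩]
    have e : (⟨u - x, (W8 o).sub_mem hu hx⟩ : W8 o) = ⟨u, hu⟩ - ⟨x, hx⟩ := rfl
    rw [e, map_sub]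
    generalize fv ⟨u, hu⟩ = a at huv ⊢
    generalize fv ⟨x, hx⟩ = b at hxv ⊢
    revert a b; decide

theorem card_inf88 {v w : L2} (hv : v ∈ pts o) (hw : w ∈ pts o) (hne : v ≠ w) :
    Nat.card (Iv v ⊓ Iv w ⊓ W8 o : AddSubgroup L2) = 2 ^ 6 := by
  have h1 := card_sup_inf (Iv v ⊓ W8 o) (Iv w ⊓ W8 o)
  have h2 : (Iv v ⊓ W8 o) ⊔ (Iv w ⊓ W8 o) = W8 o := by
    apply le_antisymm (sup_le inf_le_right inf_le_right)
    intro u hu
    obtain ⟨p, hp, hpv, p', hp', hpw, rfl⟩ := decomp F hv hw hne hu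
    exact AddSubgroup.add_mem_sup ⟨hpv, hp⟩ ⟨hpw, hp'⟩
  have h3 : (Iv v ⊓ W8 o) ⊓ (Iv w ⊓ W8 o) = Iv v ⊓ Iv w ⊓ W8 o := by
    rw [inf_inf_inf_comm, inf_idem]
  rw [h2, h3, H848.TenA.card_W8 F, card_inf8 F hv, card_inf8 F hw] at h1
  omega

/-! ### The subspaces -/

omit F in
/-- `(Iv v ⊓ W16) + W8` -/
noncomputable def KK (o : golayCode) (v : L2) : AddSubgroup L2 := (Iv v ⊓ W16 o) ⊔ W8 o

omit F in
theorem KK_le {v : L2} : KK o v ≤ W16 o := sup_le inf_le_right (W8_le_W16 o)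

omit F in
theorem W8_le_KK {v : L2} : W8 o ≤ KK o v := le_sup_right

theorem card_inf16 {v : L2} (hv : v ∈ pts o) : Nat.card (Iv v ⊓ W16 o : AddSubgroup L2) = 2 ^ 11 := by
  have h1 := card_perp (Iv v ⊓ W16 o)
  rw [perp_inf, perp_Iv hv.2, perp_W16] at h1
  have h2 := card_sup_inf (Iv v) (W8 o)
  rw [card_inf8 F hv, card_Iv hv.2, H848.TenA.card_W8 F] at h2
  have h3 : Nat.card (Iv v ⊔ W8 o : AddSubgroup L2) = 2 ^ 13 := by omega
  rw [h3] at h1
  omega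

theorem card_KK {v : L2} (hv : v ∈ pts o) : Nat.card (KK o v) = 2 ^ 12 := by
  have h1 := card_sup_inf (Iv v ⊓ W16 o) (W8 o)
  have h2 : (Iv v ⊓ W16 o) ⊓ W8 o = Iv v ⊓ W8 o := by
    rw [inf_assoc, inf_eq_right.2 (W8_le_W16 o)]
  rw [h2, card_inf8 F hv, card_inf16 F hv, H848.TenA.card_W8 F] at h1
  unfold KK
  omega

omit F in
theorem qf_Iv {v x : L2} (hv : IsType 4 v) (hx : x ∈ Iv v) : qf x = 0 := by
  obtain ⟨g, rfl⟩ := exists_g hv
  rw [mem_Iv rfl] at hx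
  rw [← qf_smul1 g⁻¹]
  exact H848.TrioK.qf_W12 hx

theorem qf_KK {v x : L2} (hv : v ∈ pts o) (hx : x ∈ KK o v) : qf x = 0 := by
  obtain ⟨a, ha, u, hu, rfl⟩ := AddSubgroup.mem_sup.1 hx
  have h1 : bf a u = 0 := by
    have h2 : a ∈ perp (W8 o) := by rw [perp_W8]; exact ha.2
    exact h2 u hu
  rw [qf_add, qf_Iv hv.2 ha.1, H848.TenA.qf_W8 F hu, h1]
  rfl

theorem KK_inf {v w : L2} (hv : v ∈ pts o) (hw : w ∈ pts o) (hne : v ≠ w) :
    KK o v ⊓ KK o w = (Iv v ⊓ Iv w ⊓ W16 o) ⊔ W8 o := by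
  apply le_antisymm
  · rintro x ⟨hx1, hx2⟩
    obtain ⟨a, ha, u, hu, rfl⟩ := AddSubgroup.mem_sup.1 hx1
    obtain ⟨b, hb, u', hu', hab⟩ := AddSubgroup.mem_sup.1 hx2
    obtain ⟨p, hp, hpv, p', hp', hpw, hpp⟩ := decomp F hv hw hne ((W8 o).add_mem hu hu')
    -- a + b = u + u' = p + p'
    have h1 : a + p = b + p' := by
      have h2 : a + b = p + p' := by
        rw [← hpp]
        apply eq_of_add_eq_zero
        calc a + b + (u + u') = (a + u) + (b + u') := by abel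
          _ = 0 := by rw [hab]; exact add_self _
      apply eq_of_add_eq_zero
      calc a + p + (b + p') = (a + b) + (p + p') := by abel
        _ = 0 := by rw [h2]; exact add_self _
    have h3 : a + u = (a + p) + (p + u) := by
      calc a + u = a + u + (p + p) := by rw [add_self, add_zero]
        _ = (a + p) + (p + u) := by abel
    rw [h3]
    refine AddSubgroup.add_mem_sup ⟨⟨(Iv v).add_mem ha.1 hpv, ?_⟩, ?_⟩ ((W8 o).add_mem hp hu)
    · show a + p ∈ Iv w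
      rw [h1]
      exact (Iv w).add_mem hb.1 hpw
    · exact (W16 o).add_mem ha.2 (W8_le_W16 o hp)
  · refine sup_le (le_inf ?_ ?_) (le_inf W8_le_KK W8_le_KK)
    · exact le_sup_of_le_left (inf_le_inf_right _ inf_le_left)
    · exact le_sup_of_le_left (inf_le_inf_right _ inf_le_right)

theorem card_KK_inf {v w : L2} (hv : v ∈ pts o) (hw : w ∈ pts o) (hwv : w ∈ Iv v) (hne : v ≠ w) :
    Nat.card (KK o v ⊓ KK o w : AddSubgroup L2) ≤ 2 ^ 10 := by
  rw [KK_inf F hv hw hne]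
  have h1 := card_sup_inf (Iv v ⊓ Iv w ⊓ W16 o) (W8 o)
  have h2 : (Iv v ⊓ Iv w ⊓ W16 o) ⊓ W8 o = Iv v ⊓ Iv w ⊓ W8 o := by
    rw [inf_assoc, inf_eq_right.2 (W8_le_W16 o)]
  rw [h2, card_inf88 F hv hw hne, H848.TenA.card_W8 F] at h1
  have h3 : Nat.card (Iv v ⊓ Iv w ⊓ W16 o : AddSubgroup L2) ≤ 2 ^ 8 := by
    refine le_trans ?_ (card_inf_le hv.2 hw.2 hwv hne.symm)
    exact Nat.card_mono (Set.toFinite _) inf_le_left
  omega

/-- an opposite class -/
theorem exists_opp {v : L2} (hv : v ∈ pts o) : ∃ w ∈ pts o, w ∉ Iv v := by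
  obtain ⟨g, hg, rfl⟩ := F.trans v hv.1 hv.2
  obtain ⟨x, hx, hx4, hxn, -⟩ := exists_out F
  refine ⟨g • x, ⟨CO_mem_W8 hg hx, hx4.smul1 g⟩, ?_⟩
  rw [smul_mem_Iv, Iv_f0]
  exact hxn

end

end Cfsg.Agent.R2.H20.Mon.IvFam
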